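import Groth.Agent.SGA7.DualVar.Irreducible
import Groth.Agent.Variety2.BertiniJets

/-!
# A general hypersurface cuts a smooth projective variety transversally
-/

set_option autoImplicit false
set_option linter.style.haveILetI false

universe u

open CategoryTheory CategoryTheory.Limits AlgebraicGeometry Opposite TopologicalSpace
open MvPolynomial
open scoped TensorProduct

namespace Groth.SGA7.DualVar

variable {k : Type u} [Field k]

/-- If `B/(h)` is smooth and `h` has zero differential at a zero, then `h` vanishes near it. -/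
theorem exists_annihilator_of_smooth_quotient {B : Type u} [CommRing B] [Algebra k B] [Algebra.Smooth k B]
    (h : B) [Algebra.FormallySmooth k (B ⧸ Ideal.span {h})] (c : B →ₐ[k] k) (hc : c h = 0)
    (hD : ∀ D ∈ pDer c, D h = 0) : ∃ u : B, c u ≠ 0 ∧ u * h = 0 := by
  classical
  let S := B ⧸ Ideal.span {h}
  have hsurj : Function.Surjective (algebraMap B S) := Ideal.Quotient.mk_surjective
  obtain ⟨σ, hσ⟩ := (Algebra.FormallySmooth.iff_split_injection (R := k) hsurj).1 inferInstance
  obtain ⟨N, ret, sec, -, -, hsec⟩ := Module.Finite.exists_comp_eq_id_of_projective B Ω[B⁄k]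
  let dh := KaehlerDifferential.D k B h
  have hmem : h ∈ RingHom.ker (algebraMap B S) :=
    RingHom.mem_ker.2 (Ideal.Quotient.eq_zero_iff_mem.2 (Ideal.mem_span_singleton_self h))
  have hker : RingHom.ker (algebraMap B S) = Ideal.span {h} := Ideal.mk_ker
  have hs : ∀ j, c (sec dh j) = 0 := fun j => by
    refine hD { toFun := fun b => c (sec (KaehlerDifferential.D k B b) j), map_add' := fun a b => ?_, map_smul' := fun t b => ?_ } fun a b => ?_
    · rw [map_add, map_add, Pi.add_apply, map_add]
    · rw [Derivation.map_smul, ← algebraMap_smul B t, map_smul, Pi.smul_apply, smul_eq_mul, map_mul,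
        c.commutes, RingHom.id_apply, smul_eq_mul, Algebra.algebraMap_self, RingHom.id_apply]
    · simp only [LinearMap.coe_mk, AddHom.coe_mk, Derivation.leibniz, map_add, map_smul, Pi.add_apply,
        Pi.smul_apply, smul_eq_mul, map_mul]
  have hz : ∀ j : Fin N, ∃ z, (RingHom.ker (algebraMap B S)).toCotangent ⟨z * h,
      Ideal.mul_mem_left _ z hmem⟩ = σ (1 ⊗ₜ ret (Pi.single j 1)) := fun j => by
    obtain ⟨⟨w, hw⟩, hw'⟩ := Ideal.toCotangent_surjective _ (σ (1 ⊗ₜ ret (Pi.single j 1)))
    obtain ⟨z, rfl⟩ := Ideal.mem_span_singleton'.1 (hker ▸ hw)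
    exact ⟨z, hw'⟩
  choose z hz using hz
  have h1 : (RingHom.ker (algebraMap B S)).toCotangent ⟨h, hmem⟩ =
      ∑ j, sec dh j • (RingHom.ker (algebraMap B S)).toCotangent ⟨z j * h, Ideal.mul_mem_left _ (z j) hmem⟩ := by
    have e1 : (1 : S) ⊗ₜ[B] dh = ∑ j, sec dh j • ((1 : S) ⊗ₜ[B] ret (Pi.single j 1)) := by
      have e2 : dh = ∑ j, sec dh j • ret (Pi.single j 1) := by
        conv_lhs => rw [show dh = ret (sec dh) from (LinearMap.congr_fun hsec _).symm, pi_eq_sum_univ (sec dh)]
        rw [map_sum]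
        refine Finset.sum_congr rfl fun j _ => ?_
        rw [map_smul]
        congr 2
        funext l
        simp [Pi.single_apply, eq_comm]
      conv_lhs => rw [e2]
      rw [TensorProduct.tmul_sum]
      exact Finset.sum_congr rfl fun j _ => TensorProduct.tmul_smul _ _ _
    have e3 := LinearMap.congr_fun hσ ((RingHom.ker (algebraMap B S)).toCotangent ⟨h, hmem⟩)
    rw [LinearMap.comp_apply, KaehlerDifferential.kerCotangentToTensor_toCotangent, LinearMap.id_apply] at e3
    rw [← e3, e1, map_sum]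
    refine Finset.sum_congr rfl fun j _ => ?_
    rw [map_smul, hz]
  simp only [← map_smul, ← map_sum] at h1
  rw [Ideal.toCotangent_eq] at h1
  have h2 : h - ∑ j, sec dh j * (z j * h) ∈ Ideal.span {h * h} := by
    rw [← Ideal.span_singleton_mul_span_singleton, ← hker, ← pow_two]
    simpa [AddSubmonoidClass.coe_finsetSum] using h1
  obtain ⟨w, hw⟩ := Ideal.mem_span_singleton'.1 h2
  refine ⟨1 - ∑ j, sec dh j * z j - w * h, ?_, ?_⟩
  · simp [map_sum, hs, hc]
  · have e4 : (∑ j, sec dh j * z j) * h = ∑ j, sec dh j * (z j * h) := by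
      rw [Finset.sum_mul]; exact Finset.sum_congr rfl fun j _ => mul_assoc _ _ _
    rw [sub_mul, sub_mul, one_mul, e4, mul_assoc]
    exact sub_eq_zero.2 hw.symm

variable {r : ℕ} {X : Scheme.{u}} (i : X ⟶ CohB1.ProjSpace r k) [IsClosedImmersion i]
variable {n : ℕ} [SmoothOfRelativeDimension n (i ≫ CohB1.ProjSpace.toSpec r k)] [IsAlgClosed k] [IrreducibleSpace X]
variable {d : ℕ}

local notation "ℙg" => CohB1.polyGrading r k

include n in
/-- Transversality from smoothness of the chart rings and non-vanishing on each chart. -/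
theorem transversal_of_smooth (hn : 1 ≤ n) (H : LefPen.Form r k d)
    (h : ∀ j, (chartPts i j).Nonempty →
      Algebra.Smooth k ((MvPolynomial (Fin r) k ⧸ chartIdeal i j) ⧸
        Ideal.span {Ideal.Quotient.mk (chartIdeal i j) (dehomog j H.1)}) ∧
      ∃ b ∈ chartPts i j, eval b (dehomog j H.1) ≠ 0) :
    LefPen.Transversal k n 1 (LefPen.secToSpec i ({H} : Set (LefPen.Form r k d))) := by
  rw [transversal_iff i hn H]
  rintro j c ⟨hc0, hcD⟩
  rw [affEq_eq] at hc0 hcD
  let a : Fin r → k := fun l => c (Ideal.Quotient.mk _ (MvPolynomial.X l))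
  have hc : ∀ p, c (Ideal.Quotient.mk _ p) = eval a p := fun p => by
    have : c.comp (Ideal.Quotient.mkₐ k (chartIdeal i j)) = aeval a := algHom_ext fun l => by simp [a]
    have h' := DFunLike.congr_fun this p
    rwa [AlgHom.comp_apply, Ideal.Quotient.mkₐ_eq_mk, aeval_eq_eval] at h'
  have ha : a ∈ chartPts i j := fun p hp => by
    rw [← hc, Ideal.Quotient.eq_zero_iff_mem.2 hp, map_zero]
  obtain ⟨hsm, b, hb, hbne⟩ := h j ⟨a, ha⟩
  haveI : Algebra.Smooth k (MvPolynomial (Fin r) k ⧸ chartIdeal i j) :=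
    finiteType_of_smoothRelDim (smoothRelDim_chart (n := n) i j)
  haveI := hsm
  obtain ⟨u, hu, hu0⟩ := exists_annihilator_of_smooth_quotient _ c hc0 hcD
  obtain ⟨u, rfl⟩ := Ideal.Quotient.mk_surjective u
  rw [← map_mul, Ideal.Quotient.eq_zero_iff_mem] at hu0
  rcases chart_irreducible i (p := u) (q := dehomog j H.1)
    (fun x hx => by rw [← map_mul]; exact hx _ hu0) with h1 | h1
  · exact hu (by rw [hc]; exact h1 a ha)
  · exact hbne (h1 b hb)

/-- Jets of a family containing `1` and generators generate. -/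
theorem jets_span {B : Type u} [CommRing B] [Algebra k B] {σ : Type*} (π : MvPolynomial σ k →ₐ[k] B)
    (hπ : Function.Surjective π) {V : Type*} [AddCommGroup V] [Module k V] (φ : V →ₗ[k] B)
    (h1 : ∃ G, φ G = 1) (hX : ∀ l, ∃ G, φ G = π (MvPolynomial.X l)) {ι : Type*} [Fintype ι]
    (bb : Module.Basis ι k V) :
    Submodule.span B (Set.range fun e => (φ (bb e), KaehlerDifferential.D k B (φ (bb e)))) = ⊤ := by
  set U := Submodule.span B (Set.range fun e => (φ (bb e), KaehlerDifferential.D k B (φ (bb e))))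
  let Φ : V →ₗ[k] B × Ω[B⁄k] := φ.prod ((KaehlerDifferential.D k B).toLinearMap.comp φ)
  have hΦ : ∀ G, Φ G ∈ U := fun G => by
    rw [← bb.sum_repr G, map_sum]
    refine Submodule.sum_mem _ fun e _ => ?_
    rw [map_smul, ← algebraMap_smul B]
    exact Submodule.smul_mem _ _ (Submodule.subset_span ⟨e, rfl⟩)
  obtain ⟨G0, hG0⟩ := h1
  have h10 : ((1 : B), (0 : Ω[B⁄k])) ∈ U := by
    have e : Φ G0 = (1, 0) := Prod.ext hG0 (by
      change KaehlerDifferential.D k B (φ G0) = 0
      rw [hG0, Derivation.map_one_eq_zero])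
    exact e ▸ hΦ G0
  have hy : ∀ l, ((0 : B), KaehlerDifferential.D k B (π (MvPolynomial.X l))) ∈ U := by
    intro l
    obtain ⟨G, hG⟩ := hX l
    have h := sub_mem (hΦ G) (U.smul_mem (φ G) h10)
    have e : Φ G - φ G • ((1 : B), (0 : Ω[B⁄k])) = (0, KaehlerDifferential.D k B (π (MvPolynomial.X l))) := by
      refine Prod.ext ?_ ?_
      · change φ G - φ G * 1 = 0
        rw [mul_one, sub_self]
      · change KaehlerDifferential.D k B (φ G) - φ G • (0 : Ω[B⁄k]) = _
        rw [smul_zero, sub_zero, hG]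
    rwa [e] at h
  have hd : ∀ p, ((0 : B), KaehlerDifferential.D k B (π p)) ∈ U := by
    intro p
    induction p using MvPolynomial.induction_on with
    | C t =>
      rw [← MvPolynomial.algebraMap_eq, AlgHom.commutes, Derivation.map_algebraMap]
      exact U.zero_mem
    | add p q hp hq =>
      have h := U.add_mem hp hq
      rwa [Prod.mk_add_mk, add_zero, ← map_add, ← map_add] at h
    | mul_X p l hp =>
      rw [map_mul, Derivation.leibniz]
      have h := U.add_mem (U.smul_mem (π p) (hy l)) (U.smul_mem (π (MvPolynomial.X l)) hp)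
      rwa [Prod.smul_mk, Prod.smul_mk, Prod.mk_add_mk, smul_zero, smul_zero, add_zero] at h
  rw [eq_top_iff]
  rintro ⟨x, ω⟩ -
  have hω : ω ∈ U.comap (LinearMap.inr B B Ω[B⁄k]) := by
    refine (Submodule.span_le.2 ?_ : Submodule.span B (Set.range (KaehlerDifferential.D k B)) ≤ _)
      (by rw [KaehlerDifferential.span_range_derivation]; trivial)
    rintro _ ⟨y, rfl⟩
    obtain ⟨p, rfl⟩ := hπ y
    exact hd p
  have h := U.add_mem (U.smul_mem x h10) hω
  rwa [LinearMap.inr_apply, Prod.smul_mk, smul_zero, smul_eq_mul, mul_one, Prod.mk_add_mk, add_zero, zero_add] at h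

include n in
/-- A general hypersurface cuts transversally. -/
theorem isGeneric_transversal (hn : 1 ≤ n) (hd : 1 ≤ d) :
    LefPen.IsGeneric k {H : LefPen.Form r k d |
      LefPen.Transversal k n 1 (LefPen.secToSpec i ({H} : Set (LefPen.Form r k d)))} := by
  classical
  haveI : Fintype {e : Fin (r + 1) →₀ ℕ | e.degree = d} := Fintype.ofFinite _
  let mb := Forms.monBasis r k d
  let N := Fintype.card {e : Fin (r + 1) →₀ ℕ | e.degree = d}
  let eqv := Fintype.equivFin {e : Fin (r + 1) →₀ ℕ | e.degree = d}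
  let bb := mb.reindex eqv
  have hq : ∀ j, ∃ q : MvPolynomial (Fin N) k, q ≠ 0 ∧ ((chartPts i j).Nonempty → ∀ H : LefPen.Form r k d,
      eval (fun e => bb.repr H e) q ≠ 0 →
        Algebra.Smooth k ((MvPolynomial (Fin r) k ⧸ chartIdeal i j) ⧸
          Ideal.span {Ideal.Quotient.mk (chartIdeal i j) (dehomog j H.1)}) ∧
        ∃ b ∈ chartPts i j, eval b (dehomog j H.1) ≠ 0) := by
    intro j
    by_cases hne : (chartPts i j).Nonempty
    swap
    · exact ⟨1, one_ne_zero, fun h => absurd h hne⟩
    obtain ⟨b, hb⟩ := hne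
    let B := MvPolynomial (Fin r) k ⧸ chartIdeal i j
    haveI : Algebra.Smooth k B := finiteType_of_smoothRelDim (smoothRelDim_chart (n := n) i j)
    let φ : LefPen.Form r k d →ₗ[k] B :=
      ((Ideal.Quotient.mkₐ k (chartIdeal i j)).comp (dehomog j)).toLinearMap.comp
        (CohB1.polyGrading r k d).subtype
    let a : Fin N → B := fun e => φ (bb e)
    have hXj : dehomog j (MvPolynomial.X j : MvPolynomial (Fin (r + 1)) k) = 1 := by
      simp [dehomog, PlaneCurve.affCoord]
    let G0 : LefPen.Form r k d := ⟨MvPolynomial.X j ^ d, (mem_homogeneousSubmodule _ _).2 (isHomogeneous_X_pow j d)⟩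
    have hU := jets_span (Ideal.Quotient.mkₐ k (chartIdeal i j)) (Ideal.Quotient.mkₐ_surjective k _) φ
      ⟨G0, by simp [φ, G0, hXj]⟩ (fun l => ⟨⟨MvPolynomial.X j ^ (d - 1) * MvPolynomial.X (j.succAbove l), by
        refine (mem_homogeneousSubmodule _ _).2 ?_
        have := (isHomogeneous_X_pow (R := k) j (d - 1)).mul (isHomogeneous_X k (j.succAbove l))
        rwa [Nat.sub_add_cancel hd] at this⟩, by simp [φ, dehomog, PlaneCurve.affCoord]⟩) bb
    obtain ⟨q, hq0, hq⟩ := Groth.Variety2.Bertini.exists_smooth_member_jets k B a 0 hU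
    let q' : MvPolynomial (Fin N) k := ∑ e, MvPolynomial.C (eval b (dehomog j (bb e).1)) * MvPolynomial.X e
    have hq' : ∀ H : LefPen.Form r k d, eval (fun e => bb.repr H e) q' = eval b (dehomog j H.1) := fun H => by
      conv_rhs => rw [← bb.sum_repr H]
      simp only [q', map_sum, map_mul, eval_C, eval_X, AddSubmonoidClass.coe_finsetSum, SetLike.val_smul,
        map_smul, smul_eval]
      exact Finset.sum_congr rfl fun e _ => mul_comm _ _
    have hq'0 : q' ≠ 0 := fun h0 => by
      have := hq' G0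
      rw [h0, map_zero] at this
      change 0 = eval b (dehomog j (MvPolynomial.X j ^ d)) at this
      rw [map_pow, hXj, one_pow, map_one] at this
      exact zero_ne_one this
    refine ⟨q * q', mul_ne_zero hq0 hq'0, fun _ H hH => ?_⟩
    rw [map_mul] at hH
    refine ⟨?_, b, hb, by rw [← hq']; exact right_ne_zero_of_mul hH⟩
    have e : Ideal.Quotient.mk (chartIdeal i j) (dehomog j H.1) =
        0 + ∑ e, algebraMap k B (bb.repr H e) * a e := by
      change φ H = _
      conv_lhs => rw [← bb.sum_repr H]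
      rw [map_sum, zero_add]
      refine Finset.sum_congr rfl fun e _ => ?_
      rw [map_smul]
      exact (Algebra.smul_def (A := B) (bb.repr H e) (a e))
    rw [e]
    exact hq _ (left_ne_zero_of_mul hH)
  choose q hq0 hq using hq
  refine ⟨fun H => eval (fun e => bb.repr H e) (∏ j, q j), ?_, ?_, fun H hH => ?_⟩
  · have := Forms.isPolyFun_aeval (V := LefPen.Form r k d) (∏ j, q j) (g := fun e H => bb.repr H e) fun e =>
      Forms.isPolyFun_linear (bb.coord e)
    simpa [MvPolynomial.aeval_eq_eval] using this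
  · obtain ⟨c, hc⟩ : ∃ c : Fin N → k, eval c (∏ j, q j) ≠ 0 := by
      by_contra hcon
      push Not at hcon
      exact Finset.prod_ne_zero_iff.2 (fun j _ => hq0 j) (MvPolynomial.funext (q := 0) fun c => by rw [hcon c, map_zero])
    exact ⟨bb.equivFun.symm c, by convert hc using 3; funext e; exact congrFun (bb.equivFun.apply_symm_apply c) e⟩
  · refine transversal_of_smooth i hn H fun j hj => hq j hj H ?_
    dsimp only at hH
    rw [_root_.map_prod] at hH
    exact Finset.prod_ne_zero_iff.1 hH j (Finset.mem_univ j)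

end Groth.SGA7.DualVar
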