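import Groth.Agent.SGA7.DualVar.Open
import Mathlib.RingTheory.Nullstellensatz
import Mathlib.AlgebraicGeometry.Morphisms.QuasiCompact

/-!
# The non-transversal hypersurfaces form an irreducible set
-/

set_option autoImplicit false
set_option linter.style.haveILetI false

universe u

open CategoryTheory CategoryTheory.Limits AlgebraicGeometry Opposite TopologicalSpace
open MvPolynomial

namespace Groth.SGA7.DualVar

variable {k : Type u} [Field k]

section Generic

variable {V : Type u} [AddCommGroup V] [Module k V]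

/-- A polynomial function on a polynomial curve. -/
theorem exists_poly_comp {f : V → k} (hf : LefPen.IsPolyFun k f) {σ : Type*} {E : Type*} [Fintype E]
    (γ : E → MvPolynomial σ k) (v : E → V) :
    ∃ s : MvPolynomial σ k, ∀ c : σ → k, eval c s = f (∑ e, eval c (γ e) • v e) := by
  induction hf using Algebra.adjoin_induction with
  | mem g hg =>
    obtain ⟨l, rfl⟩ := hg
    refine ⟨∑ e, MvPolynomial.C (l (v e)) * γ e, fun c => ?_⟩
    simp only [map_sum, map_mul, eval_C, map_smul, smul_eq_mul]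
    exact Finset.sum_congr rfl fun e _ => mul_comm _ _
  | algebraMap t => exact ⟨MvPolynomial.C t, fun c => by simp⟩
  | add a b _ _ ha hb =>
    obtain ⟨s, hs⟩ := ha
    obtain ⟨t, ht⟩ := hb
    exact ⟨s + t, fun c => by rw [map_add, hs, ht]; rfl⟩
  | mul a b _ _ ha hb =>
    obtain ⟨s, hs⟩ := ha
    obtain ⟨t, ht⟩ := hb
    exact ⟨s * t, fun c => by rw [map_mul, hs, ht]; rfl⟩

/-- A linear subspace is irreducible. -/
theorem subspace_irreducible [Infinite k] [FiniteDimensional k V] {f g : V → k}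
    (hf : LefPen.IsPolyFun k f) (hg : LefPen.IsPolyFun k g) (W : Submodule k V)
    (h : ∀ v ∈ W, f v * g v = 0) : (∀ v ∈ W, f v = 0) ∨ (∀ v ∈ W, g v = 0) := by
  let b := Module.finBasis k W
  obtain ⟨s, hs⟩ := exists_poly_comp hf (fun e => MvPolynomial.X e) fun e => (b e).1
  obtain ⟨t, ht⟩ := exists_poly_comp hg (fun e => MvPolynomial.X e) fun e => (b e).1
  simp only [eval_X] at hs ht
  have hmem : ∀ c : Fin (Module.finrank k W) → k, ∑ e, c e • (b e).1 ∈ W := fun c =>
    Submodule.sum_mem _ fun e _ => Submodule.smul_mem _ _ (b e).2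
  have hst : s * t = 0 := MvPolynomial.funext fun c => by
    rw [map_mul, hs, ht, map_zero]
    exact h _ (hmem c)
  have hsurj : ∀ (v : V) (hv : v ∈ W), v = ∑ e, b.repr ⟨v, hv⟩ e • (b e).1 := fun v hv => by
    have := congrArg W.subtype (b.sum_repr ⟨v, hv⟩)
    rw [map_sum] at this
    exact this.symm.trans (Finset.sum_congr rfl fun e _ => map_smul _ _ _)
  rcases mul_eq_zero.1 hst with h0 | h0
  · refine Or.inl fun v hv => ?_
    rw [hsurj v hv, ← hs, h0, map_zero]
  · refine Or.inr fun v hv => ?_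
    rw [hsurj v hv, ← ht, h0, map_zero]

end Generic

/-- The kernel of a matrix of polynomials near a point where it is surjective. -/
theorem exists_kernel_param {σ : Type*} {α β : Type*} [Fintype α] [DecidableEq α] [Fintype β] [DecidableEq β]
    (A : Matrix α β (MvPolynomial σ k)) (c₀ : σ → k) (S₀ : Matrix β α k)
    (h : A.map (eval c₀) * S₀ = 1) :
    ∃ (u : MvPolynomial σ k) (Q : Matrix β β (MvPolynomial σ k)), eval c₀ u ≠ 0 ∧
      ∀ c : σ → k, A.map (eval c) * Q.map (eval c) = 0 ∧
        ∀ x : β → k, (A.map (eval c)).mulVec x = 0 → (Q.map (eval c)).mulVec x = eval c u • x := by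
  let S : Matrix β α (MvPolynomial σ k) := S₀.map MvPolynomial.C
  let Q := (A * S).det • (1 : Matrix β β (MvPolynomial σ k)) - S * (A * S).adjugate * A
  have hAQ : A * Q = 0 := by
    have e : A * (S * (A * S).adjugate * A) = (A * S).det • A := by
      rw [← Matrix.mul_assoc, ← Matrix.mul_assoc, Matrix.mul_adjugate, Matrix.smul_mul, Matrix.one_mul]
    rw [Matrix.mul_sub, Matrix.mul_smul, Matrix.mul_one, e, sub_self]
  have hS : ∀ c : σ → k, S.map (eval c) = S₀ := fun c => Matrix.ext fun a b => by simp [S]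
  refine ⟨(A * S).det, Q, ?_, fun c => ⟨?_, fun x hx => ?_⟩⟩
  · rw [RingHom.map_det, RingHom.mapMatrix_apply, Matrix.map_mul, hS, h, Matrix.det_one]
    exact one_ne_zero
  · rw [← Matrix.map_mul, hAQ, Matrix.map_zero _ (map_zero _)]
  · have hQ : Q.map (eval c) = eval c (A * S).det • (1 : Matrix β β k) -
        S₀ * (A * S).adjugate.map (eval c) * A.map (eval c) := by
      have h1 := map_sub ((eval c).mapMatrix (m := β)) ((A * S).det • (1 : Matrix β β (MvPolynomial σ k)))
        (S * (A * S).adjugate * A)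
      simp only [RingHom.mapMatrix_apply] at h1
      rw [h1, Matrix.map_smul' _ _ _ (map_mul _), Matrix.map_one _ (map_zero _) (map_one _),
        Matrix.map_mul, Matrix.map_mul, hS]
    rw [hQ, Matrix.sub_mulVec, Matrix.smul_mulVec, Matrix.one_mulVec, ← Matrix.mulVec_mulVec, hx,
      Matrix.mulVec_zero, sub_zero]

variable {r : ℕ} {X : Scheme.{u}} (i : X ⟶ CohB1.ProjSpace r k)

local notation "ℙg" => CohB1.polyGrading r k

/-- The rational points of a chart. -/
def chartPts (j : Fin (r + 1)) : Set (Fin r → k) := {a | ∀ p ∈ chartIdeal i j, eval a p = 0}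

theorem mem_chartPts {j : Fin (r + 1)} {a : Fin r → k} :
    a ∈ chartPts i j ↔ ∀ p ∈ chartIdeal i j, eval a p = 0 := Iff.rfl

variable [IsClosedImmersion i]

theorem basicOpen_eq_bot [IsAlgClosed k] {j : Fin (r + 1)} {p : MvPolynomial (Fin r) k}
    (h : ∀ a ∈ chartPts i j, eval a p = 0) : X.basicOpen (chartPi i j p) = ⊥ := by
  have hp : p ∈ MvPolynomial.vanishingIdeal k (MvPolynomial.zeroLocus k (chartIdeal i j)) := by
    rw [MvPolynomial.mem_vanishingIdeal_iff]
    intro a ha
    rw [MvPolynomial.aeval_eq_eval]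
    refine h a fun q hq => ?_
    rw [← MvPolynomial.aeval_eq_eval]
    exact (MvPolynomial.mem_zeroLocus_iff.1 ha) q hq
  rw [MvPolynomial.vanishingIdeal_zeroLocus_eq_radical] at hp
  obtain ⟨N, hN⟩ := hp
  exact X.basicOpen_eq_bot_of_isNilpotent _ _ ⟨N, by rw [← map_pow]; exact hN⟩

theorem basicOpen_ne_bot {j : Fin (r + 1)} {p : MvPolynomial (Fin r) k} {a : Fin r → k}
    (ha : a ∈ chartPts i j) (h : eval a p ≠ 0) : X.basicOpen (chartPi i j p) ≠ ⊥ := by
  intro hb
  obtain ⟨N, hN⟩ := (Scheme.isNilpotent_iff_basicOpen_eq_bot_of_isCompact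
    ((chartAff j).2.preimage i).isCompact (chartPi i j p)).2 hb
  rw [← map_pow] at hN
  have := ha _ hN
  rw [map_pow] at this
  exact h (eq_zero_of_pow_eq_zero this)

theorem inf_ne_bot [IrreducibleSpace X] {U V : X.Opens} (hU : U ≠ ⊥) (hV : V ≠ ⊥) : U ⊓ V ≠ ⊥ := by
  rw [Opens.ne_bot_iff_nonempty, Opens.coe_inf]
  exact nonempty_preirreducible_inter U.2 V.2 ((Opens.ne_bot_iff_nonempty U).1 hU)
    ((Opens.ne_bot_iff_nonempty V).1 hV)

/-- A chart is irreducible. -/
theorem chart_irreducible [IsAlgClosed k] [IrreducibleSpace X] {j : Fin (r + 1)}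
    {p q : MvPolynomial (Fin r) k} (h : ∀ a ∈ chartPts i j, eval a p * eval a q = 0) :
    (∀ a ∈ chartPts i j, eval a p = 0) ∨ (∀ a ∈ chartPts i j, eval a q = 0) := by
  by_contra hcon
  push Not at hcon
  obtain ⟨⟨a, ha, hpa⟩, b, hb, hqb⟩ := hcon
  refine inf_ne_bot (basicOpen_ne_bot i ha hpa) (basicOpen_ne_bot i hb hqb) ?_
  rw [← Scheme.basicOpen_mul, ← map_mul]
  exact basicOpen_eq_bot i fun c hc => by rw [map_mul]; exact h c hc

/-- Two nonempty charts meet. -/
theorem exists_overlap [IsAlgClosed k] [IrreducibleSpace X] {j l : Fin (r + 1)} {a : Fin r → k}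
    (ha : a ∈ chartPts i j) {b : Fin r → k} (hb : b ∈ chartPts i l) :
    ∃ c ∈ chartPts i l, eval c (dehomog l (MvPolynomial.X j : MvPolynomial (Fin (r + 1)) k)) ≠ 0 := by
  by_contra hcon
  push Not at hcon
  have h0 := basicOpen_eq_bot i hcon
  have hone : ∀ {m : Fin (r + 1)} {c : Fin r → k}, c ∈ chartPts i m →
      i ⁻¹ᵁ LefPen.chart r k m ≠ ⊥ := fun {m} {c} hc he => by
    refine basicOpen_ne_bot i hc (p := 1) (by simp) ?_
    exact le_bot_iff.1 ((X.basicOpen_le _).trans he.le)
  refine inf_ne_bot (hone hb) (hone ha) ?_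
  rw [← h0]
  have e : chartPi i l (dehomog l (MvPolynomial.X j : MvPolynomial (Fin (r + 1)) k)) =
      i.app _ (Proj.awayToSection ℙg (MvPolynomial.X l)
        (Groth.ProjClosed.fr (LefPen.X_mem r k l) 1 (MvPolynomial.X j) (LefPen.X_mem r k j))) := by
    rw [← affEq_eq l (⟨MvPolynomial.X j, LefPen.X_mem r k j⟩ : LefPen.Form r k 1)]
    exact congrArg (Groth.ProjClosed.chartHom i (MvPolynomial.X l))
      (PlaneCurve.toAway_affEq l (⟨MvPolynomial.X j, LefPen.X_mem r k j⟩ : LefPen.Form r k 1))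
  rw [e, ← Scheme.preimage_basicOpen]
  erw [Groth.ProjClosed.basicOpen_fr (LefPen.X_mem r k l) (LefPen.X_mem r k j)]
  rw [Proj.basicOpen_mul]
  rfl

variable {n : ℕ} [SmoothOfRelativeDimension n (i ≫ CohB1.ProjSpace.toSpec r k)] {d : ℕ}

include n in
/-- The hypersurfaces tangent to `X` near a point, by a polynomial family of linear maps. -/
theorem exists_param (hd : 1 ≤ d) {j : Fin (r + 1)} {a₀ : Fin r → k} (h₀ : a₀ ∈ chartPts i j) :
    ∃ (u : MvPolynomial (Fin r) k) (β : Type) (Λ : (Fin r → k) → (β → k) → LefPen.Form r k d),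
      eval a₀ u ≠ 0 ∧
      (∀ a ∈ chartPts i j, eval a u ≠ 0 →
        (∀ x, ConeSing i (Λ a x) (ins j a)) ∧
          ∀ H, ConeSing i H (ins j a) → ∃ x, Λ a x = H) ∧
      ∀ f : LefPen.Form r k d → k, LefPen.IsPolyFun k f → ∀ x : β → k,
        ∃ s : MvPolynomial (Fin r) k, ∀ a, eval a s = f (Λ a x) := by
  classical
  let R : (Fin r → k) → Set (Fin r → k) := fun a => Set.range fun p : chartIdeal i j => grad p.1 a
  obtain ⟨ρ, g, hg, hgspan, hgli⟩ : ∃ (ρ : ℕ) (g : Fin ρ → Fin r → k), (∀ q, g q ∈ R a₀) ∧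
      Submodule.span k (Set.range g) = Submodule.span k (R a₀) ∧ LinearIndependent k g :=
    ⟨_, Submodule.exists_fun_fin_finrank_span_eq k (R a₀)⟩
  choose p hp using hg
  let P0 : (Fin r → k) → Matrix (Fin ρ) (Fin r) k := fun a => Matrix.of fun q l => grad (p q).1 a l
  have hker : ∀ a, chartTan i j a ≤ LinearMap.ker (P0 a).mulVecLin := fun a w hw => by
    rw [LinearMap.mem_ker]
    funext q
    have := (mem_chartTan i).1 hw _ (p q).2
    rw [dAt_eq_grad] at this
    exact this
  have hkerdim : ∀ a, LinearIndependent k (fun q => grad (p q).1 a) →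
      Module.finrank k (LinearMap.ker (P0 a).mulVecLin) + ρ = r := fun a hli => by
    have h1 := LinearMap.finrank_range_add_finrank_ker (P0 a).mulVecLin
    have h2 : (P0 a).rank = ρ := by
      rw [LinearIndependent.rank_matrix (M := P0 a) hli, Fintype.card_fin]
    rw [Matrix.rank] at h2
    rw [h2, Module.finrank_pi, Fintype.card_fin] at h1
    omega
  have hli₀ : LinearIndependent k (fun q => grad (p q).1 a₀) := by
    have : (fun q => grad (p q).1 a₀) = g := _root_.funext fun q => hp q
    rw [this]; exact hgli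
  have htan₀ : chartTan i j a₀ = LinearMap.ker (P0 a₀).mulVecLin := by
    refine le_antisymm (hker a₀) fun w hw => (mem_chartTan i).2 fun t ht => ?_
    let Λw : (Fin r → k) →ₗ[k] k := ∑ l, w l • LinearMap.proj l
    have hΛ : ∀ t : MvPolynomial (Fin r) k, Λw (grad t a₀) = dAt t a₀ w := fun t => by
      simp [Λw, dAt_eq_grad, mul_comm]
    have hle : Submodule.span k (Set.range g) ≤ LinearMap.ker Λw := Submodule.span_le.2 <| by
      rintro _ ⟨q, rfl⟩
      rw [SetLike.mem_coe, LinearMap.mem_ker, ← hp q, hΛ, dAt_eq_grad]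
      exact congrFun (LinearMap.mem_ker.1 hw) q
    rw [hgspan] at hle
    rw [← hΛ]
    exact hle (Submodule.subset_span ⟨⟨t, ht⟩, rfl⟩)
  have hρ : n + ρ = r := by
    have := hkerdim a₀ hli₀
    rwa [← htan₀, finrank_chartTan (n := n) i ((inCone_ins i).2 h₀)] at this
  obtain ⟨b₀, hb₀⟩ := VectorBundles.Elim.exists_det_submatrix_ne_zero (P0 a₀).transpose (by
    intro x hx
    funext q
    exact Fintype.linearIndependent_iff.1 hli₀ x (funext fun l => by
      simpa [P0, Finset.sum_apply, mul_comm] using hx l) q)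
  let u₁ : MvPolynomial (Fin r) k := (Matrix.of fun l q => pderiv (b₀ l) (p q).1 : Matrix (Fin ρ) (Fin ρ) _).det
  have hu₁ : ∀ a, eval a u₁ = ((P0 a).transpose.submatrix b₀ id).det := fun a => by
    rw [RingHom.map_det]; rfl
  have hli : ∀ a, eval a u₁ ≠ 0 → LinearIndependent k (fun q => grad (p q).1 a) := fun a ha => by
    rw [hu₁, ← Matrix.det_transpose] at ha
    exact LinearIndependent.of_comp (LinearMap.funLeft k k b₀) (Matrix.linearIndependent_rows_of_det_ne_zero ha)
  haveI : Fintype {e : Fin (r + 1) →₀ ℕ | e.degree = d} := Fintype.ofFinite _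
  let mb := Forms.monBasis r k d
  let E : Type := {e : Fin (r + 1) →₀ ℕ | e.degree = d}
  let me : E → MvPolynomial (Fin r) k := fun e => dehomog j (mb e).1
  let A : Matrix (Option (Fin r)) (E ⊕ Fin ρ) (MvPolynomial (Fin r) k) := Matrix.of fun t x =>
    Option.elim t (Sum.elim me (fun _ => 0) x)
      fun l => Sum.elim (fun e => pderiv l (me e)) (fun q => -pderiv l (p q).1) x
  let formOf : (E ⊕ Fin ρ → k) → LefPen.Form r k d := fun x => ∑ e, x (Sum.inl e) • mb e
  have hform : ∀ x, dehomog j (formOf x).1 = ∑ e, x (Sum.inl e) • me e := fun x => by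
    simp only [formOf, me, AddSubmonoidClass.coe_finsetSum, SetLike.val_smul, map_sum, map_smul]
  have hAnone : ∀ a x, ((A.map (eval a)).mulVec x) none = eval a (dehomog j (formOf x).1) := fun a x => by
    simp only [Matrix.mulVec, dotProduct, Fintype.sum_sum_type, A, Matrix.map_apply, Matrix.of_apply,
      Option.elim, Sum.elim_inl, Sum.elim_inr, map_zero, zero_mul, Finset.sum_const_zero, add_zero,
      hform, map_sum, smul_eval]
    exact Finset.sum_congr rfl fun e _ => mul_comm _ _
  have hAsome : ∀ a x l, ((A.map (eval a)).mulVec x) (some l) =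
      grad (dehomog j (formOf x).1) a l - ∑ q, x (Sum.inr q) * grad (p q).1 a l := fun a x l => by
    simp only [Matrix.mulVec, dotProduct, Fintype.sum_sum_type, A, Matrix.map_apply, Matrix.of_apply,
      Option.elim, Sum.elim_inl, Sum.elim_inr, map_neg, neg_mul, Finset.sum_neg_distrib, ← sub_eq_add_neg,
      hform, grad, map_sum, map_smul, Derivation.map_smul, smul_eval]
    congr 1
    · exact Finset.sum_congr rfl fun e _ => mul_comm _ _
    · exact Finset.sum_congr rfl fun e _ => mul_comm _ _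
  have hsurj : ∀ t : Option (Fin r) → k, ∃ x, (A.map (eval a₀)).mulVec x = t := by
    intro t
    let c := t none - ∑ l, t (some l) * a₀ l
    let G : LefPen.Form r k d := ⟨MvPolynomial.X j ^ (d - 1) *
        (MvPolynomial.C c * MvPolynomial.X j + ∑ l, MvPolynomial.C (t (some l)) * MvPolynomial.X (j.succAbove l)), by
      refine (mem_homogeneousSubmodule _ _).2 ?_
      have h1 : (MvPolynomial.X j ^ (d - 1) : MvPolynomial (Fin (r + 1)) k).IsHomogeneous (d - 1) :=
        isHomogeneous_X_pow j (d - 1)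
      have h2 : (MvPolynomial.C c * MvPolynomial.X j + ∑ l, MvPolynomial.C (t (some l)) *
          MvPolynomial.X (j.succAbove l) : MvPolynomial (Fin (r + 1)) k).IsHomogeneous 1 :=
        ((isHomogeneous_X k j).C_mul c).add
          (IsHomogeneous.sum _ _ _ fun l _ => (isHomogeneous_X k _).C_mul _)
      have := h1.mul h2
      rwa [Nat.sub_add_cancel hd] at this⟩
    let x : E ⊕ Fin ρ → k := Sum.elim (fun e => mb.repr G e) fun _ => 0
    have hx : formOf x = G := mb.sum_repr G
    have hG : dehomog j G.1 = MvPolynomial.C c + ∑ l, MvPolynomial.C (t (some l)) * MvPolynomial.X l := by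
      simp [G, dehomog, PlaneCurve.affCoord]
    refine ⟨x, funext fun o => ?_⟩
    rcases o with _ | l
    · rw [hAnone, hx, hG]
      simp [c]
    · rw [hAsome, hx, hG]
      simp [x, grad, pderiv_X, Pi.single_apply, Finset.sum_ite_eq, Finset.sum_ite_eq', eq_comm]
  choose xs hxs using fun o : Option (Fin r) => hsurj (Pi.single o 1)
  obtain ⟨u₂, Q, hu₂, hQ⟩ := exists_kernel_param A a₀ (Matrix.of fun b o => xs o b) (by
    refine Matrix.ext fun o o' => ?_
    have := congrFun (hxs o') o
    rw [Matrix.mul_apply]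
    exact this.trans (by rw [Matrix.one_apply, Pi.single_apply]))
  refine ⟨u₁ * u₂, E ⊕ Fin ρ, fun a x => formOf ((Q.map (eval a)).mulVec x), ?_, fun a ha hu => ?_, ?_⟩
  · rw [map_mul]
    exact mul_ne_zero (by rw [hu₁]; exact hb₀) hu₂
  · rw [map_mul] at hu
    obtain ⟨hu₁a, hu₂a⟩ := mul_ne_zero_iff.1 hu
    have htan : chartTan i j a = LinearMap.ker (P0 a).mulVecLin := by
      refine Submodule.eq_of_le_of_finrank_eq (hker a) ?_
      have := hkerdim a (hli a hu₁a)
      rw [finrank_chartTan (n := n) i ((inCone_ins i).2 ha)]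
      omega
    refine ⟨fun x => ?_, fun H hH => ?_⟩ <;> dsimp only
    · have h0 : (A.map (eval a)).mulVec ((Q.map (eval a)).mulVec x) = 0 := by
        rw [Matrix.mulVec_mulVec, (hQ a).1, Matrix.zero_mulVec]
      generalize (Q.map (eval a)).mulVec x = y at h0 ⊢
      rw [coneSing_ins_iff, affEq_eq]
      refine ⟨(inCone_ins i).2 ha, (hAnone a y).symm.trans (congrFun h0 none), fun w hw => ?_⟩
      rw [htan, LinearMap.mem_ker] at hw
      have hl : ∀ l, grad (dehomog j (formOf y).1) a l = ∑ q, y (Sum.inr q) * grad (p q).1 a l := fun l => by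
        have := congrFun h0 (some l)
        rw [hAsome] at this
        exact sub_eq_zero.1 this
      rw [dAt_eq_grad]
      rw [Finset.sum_congr rfl fun l _ => by rw [hl l, Finset.sum_mul]]
      simp only [mul_assoc]
      rw [Finset.sum_comm]
      refine Finset.sum_eq_zero fun q _ => ?_
      rw [← Finset.mul_sum]
      exact mul_eq_zero_of_right _ (congrFun hw q)
    · rw [coneSing_ins_iff, affEq_eq] at hH
      obtain ⟨-, hH0, hHw⟩ := hH
      have hle : ⨅ q, LinearMap.ker (dAt (p q).1 a) ≤ LinearMap.ker (dAt (dehomog j H.1) a) := fun w hw => by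
        refine hHw w ?_
        rw [htan, LinearMap.mem_ker]
        funext q
        have := (Submodule.mem_iInf _).1 hw q
        rw [LinearMap.mem_ker, dAt_eq_grad] at this
        exact this
      obtain ⟨lam, hlam⟩ := (Submodule.mem_span_range_iff_exists_fun k).1 (mem_span_of_iInf_ker_le_ker hle)
      have hgr := dAt_ext_grad Finset.univ lam (fun q => (p q).1) (dehomog j H.1) a hlam.symm
      let x : E ⊕ Fin ρ → k := Sum.elim (fun e => mb.repr H e) lam
      have hx : formOf x = H := mb.sum_repr H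
      have hker' : (A.map (eval a)).mulVec x = 0 := by
        funext o
        rcases o with _ | l
        · rw [hAnone, hx]; exact hH0
        · rw [hAsome, hx, congrFun hgr l]
          simp [x, Finset.sum_apply]
      refine ⟨(eval a u₂)⁻¹ • x, ?_⟩
      rw [Matrix.mulVec_smul, (hQ a).2 x hker', inv_smul_smul₀ hu₂a, hx]
  · intro f hf x
    obtain ⟨s, hs⟩ := exists_poly_comp hf
      (fun e : E => ∑ b, Q (Sum.inl e) b * MvPolynomial.C (x b)) fun e => mb e
    refine ⟨s, fun a => (hs a).trans (congrArg f (Finset.sum_congr rfl fun e _ => ?_))⟩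
    simp [Matrix.mulVec, dotProduct, map_sum]

/-- The forms singular at a point of the cone. -/
noncomputable def singForms (d : ℕ) {v : Fin (r + 1) → k} (hv : InCone i v) : Submodule k (LefPen.Form r k d) where
  carrier := {H | ConeSing i H v}
  add_mem' := fun {H G} hH hG => by
    refine ⟨hv, ?_, fun w hw => ?_⟩
    · rw [Submodule.coe_add, map_add, hH.2.1, hG.2.1, add_zero]
    · rw [LinearMap.mem_ker, Submodule.coe_add, dAt_add, LinearMap.mem_ker.1 (hH.2.2 hw),
        LinearMap.mem_ker.1 (hG.2.2 hw), add_zero]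
  zero_mem' := ⟨hv, by simp, fun w _ => by simp [dAt_apply]⟩
  smul_mem' := fun t H hH => by
    refine ⟨hv, ?_, fun w hw => ?_⟩
    · rw [Submodule.coe_smul, smul_eval, hH.2.1, mul_zero]
    · rw [LinearMap.mem_ker, Submodule.coe_smul, MvPolynomial.smul_eq_C_mul, dAt_mul,
        LinearMap.mem_ker.1 (hH.2.2 hw), hH.2.1, mul_zero, zero_mul, add_zero]

/-- Vanishing at every form singular at a point. -/
def Kills (f : LefPen.Form r k d → k) (j : Fin (r + 1)) (a : Fin r → k) : Prop :=
  ∀ H, ConeSing i H (ins j a) → f H = 0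

variable [IsAlgClosed k] [IrreducibleSpace X]

include n in
/-- Vanishing on a nonempty open of a chart propagates to the chart. -/
theorem kills_propagate (hd : 1 ≤ d) {f : LefPen.Form r k d → k} (hf : LefPen.IsPolyFun k f) {j : Fin (r + 1)}
    {w : MvPolynomial (Fin r) k} {b : Fin r → k} (hb : b ∈ chartPts i j) (hwb : eval b w ≠ 0)
    (h : ∀ a ∈ chartPts i j, eval a w ≠ 0 → Kills i f j a) {a₀ : Fin r → k} (h₀ : a₀ ∈ chartPts i j) :
    Kills i f j a₀ := by
  obtain ⟨u, β, Λ, hu, hΛ, hpoly⟩ := exists_param (n := n) i hd h₀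
  intro H hH
  obtain ⟨x, rfl⟩ := (hΛ a₀ h₀ hu).2 H hH
  obtain ⟨s, hs⟩ := hpoly f hf x
  have hzero : ∀ a ∈ chartPts i j, eval a (u * w) * eval a s = 0 := fun a ha => by
    by_cases huw : eval a (u * w) = 0
    · rw [huw, zero_mul]
    · rw [map_mul] at huw
      rw [hs, h a ha (right_ne_zero_of_mul huw) _ ((hΛ a ha (left_ne_zero_of_mul huw)).1 x), mul_zero]
  rcases chart_irreducible i hzero with h1 | h1
  · rcases chart_irreducible i (p := u) (q := w) (fun a ha => by rw [← map_mul]; exact h1 a ha) with h2 | h2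
    · exact absurd (h2 a₀ h₀) hu
    · exact absurd (h2 b hb) hwb
  · rw [← hs]
    exact h1 a₀ h₀

include n in
/-- On each chart one factor vanishes at all singular forms. -/
theorem chart_kills (hd : 1 ≤ d) {f g : LefPen.Form r k d → k} (hf : LefPen.IsPolyFun k f)
    (hg : LefPen.IsPolyFun k g) (hfg : ∀ (v : Fin (r + 1) → k), v ≠ 0 → ∀ H, ConeSing i H v → f H * g H = 0)
    (j : Fin (r + 1)) :
    (∀ a ∈ chartPts i j, Kills i f j a) ∨ (∀ a ∈ chartPts i j, Kills i g j a) := by
  by_cases hne : ∃ a₀, a₀ ∈ chartPts i j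
  swap
  · exact Or.inl fun a ha => absurd ⟨a, ha⟩ hne
  obtain ⟨a₀, h₀⟩ := hne
  obtain ⟨u, β, Λ, hu, hΛ, hpoly⟩ := exists_param (n := n) i hd h₀
  choose sf hsf using hpoly f hf
  choose sg hsg using hpoly g hg
  have hzero : ∀ x y, ∀ a ∈ chartPts i j, eval a (u * sf x) * eval a (sg y) = 0 := fun x y a ha => by
    rw [map_mul]
    by_cases hua : eval a u = 0
    · rw [hua, zero_mul, zero_mul]
    · have hW := subspace_irreducible hf hg (singForms i d ((inCone_ins i).2 ha))
        fun H hH => hfg _ (ins_ne_zero j a) H hH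
      rw [hsf, hsg]
      rcases hW with hW | hW
      · rw [hW _ ((hΛ a ha hua).1 x), mul_zero, zero_mul]
      · rw [hW _ ((hΛ a ha hua).1 y), mul_zero]
  by_cases hcase : ∀ x, ∀ a ∈ chartPts i j, eval a (u * sf x) = 0
  · refine Or.inl fun a ha => kills_propagate (n := n) i hd hf h₀ hu (fun c hc huc H hH => ?_) ha
    obtain ⟨x, rfl⟩ := (hΛ c hc huc).2 H hH
    have := hcase x c hc
    rw [map_mul] at this
    rw [← hsf]
    exact (mul_eq_zero.1 this).resolve_left huc
  · push Not at hcase
    obtain ⟨x, a', ha', hne'⟩ := hcase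
    refine Or.inr fun a ha => kills_propagate (n := n) i hd hg h₀ hu (fun c hc huc H hH => ?_) ha
    obtain ⟨y, rfl⟩ := (hΛ c hc huc).2 H hH
    rcases chart_irreducible i (hzero x y) with h1 | h1
    · exact absurd (h1 a' ha') hne'
    · rw [← hsg]; exact h1 c hc

omit [IsAlgClosed k] [IrreducibleSpace X] in
theorem exists_chart_pt {v : Fin (r + 1) → k} (hv : InCone i v) {j : Fin (r + 1)} (hj : v j ≠ 0) :
    (fun l => (v j)⁻¹ * v (j.succAbove l)) ∈ chartPts i j := by
  rw [mem_chartPts, ← inCone_ins, exists_ins_eq hj]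
  exact hv.smul i _

include n in
/-- The singular hypersurfaces form an irreducible set. -/
theorem irreducible (hn : 1 ≤ n) (hd : 1 ≤ d) (f g : LefPen.Form r k d → k) (hf : LefPen.IsPolyFun k f)
    (hg : LefPen.IsPolyFun k g)
    (hfg : ∀ H : LefPen.Form r k d, ¬ LefPen.Transversal k n 1 (LefPen.secToSpec i ({H} : Set (LefPen.Form r k d))) →
      f H * g H = 0) :
    (∀ H : LefPen.Form r k d, ¬ LefPen.Transversal k n 1 (LefPen.secToSpec i ({H} : Set (LefPen.Form r k d))) → f H = 0) ∨
      (∀ H : LefPen.Form r k d, ¬ LefPen.Transversal k n 1 (LefPen.secToSpec i ({H} : Set (LefPen.Form r k d))) → g H = 0) := by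
  have hbad : ∀ H : LefPen.Form r k d, ¬ LefPen.Transversal k n 1 (LefPen.secToSpec i ({H} : Set (LefPen.Form r k d))) ↔
      ∃ v : Fin (r + 1) → k, v ≠ 0 ∧ ConeSing i H v := fun H => by
    rw [transversal_iff_coneSing i hn H]
    push Not
    rfl
  simp only [hbad] at hfg ⊢
  by_cases hne : ∃ j a, a ∈ chartPts i j
  swap
  · refine Or.inl fun H ⟨v, hv, hS⟩ => absurd ?_ hne
    obtain ⟨j, hj⟩ := Function.ne_iff.1 hv
    exact ⟨j, _, exists_chart_pt i hS.1 hj⟩
  obtain ⟨j, a, ha⟩ := hne
  have main : ∀ {φ : LefPen.Form r k d → k}, LefPen.IsPolyFun k φ → (∀ c ∈ chartPts i j, Kills i φ j c) →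
      ∀ H, (∃ v : Fin (r + 1) → k, v ≠ 0 ∧ ConeSing i H v) → φ H = 0 := by
    intro φ hφ hj0 H ⟨v, hv, hS⟩
    obtain ⟨l, hl⟩ := Function.ne_iff.1 hv
    have hb := exists_chart_pt i hS.1 hl
    obtain ⟨c, hc, hw⟩ := exists_overlap i ha hb
    refine kills_propagate (n := n) i hd hφ hc hw (fun c' hc' hw' G hG => ?_) hb H ?_
    · rw [eval_dehomog, eval_X] at hw'
      have hc'' := exists_chart_pt i hG.1 hw'
      refine hj0 _ hc'' G ?_
      rw [exists_ins_eq hw']
      exact hG.smul i (inv_ne_zero hw')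
    · rw [exists_ins_eq hl]
      exact hS.smul i (inv_ne_zero hl)
  rcases chart_kills (n := n) i hd hf hg (fun v hv H hH => hfg H ⟨v, hv, hH⟩) j with h | h
  · exact Or.inl (main hf h)
  · exact Or.inr (main hg h)

end Groth.SGA7.DualVar
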