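import Groth.Agent.Misc12.RelDim
import Mathlib.RingTheory.Jacobson.Ring
import Mathlib.RingTheory.Smooth.Basic
import Mathlib.FieldTheory.IsAlgClosed.Basic

/-!
# Hyperplane sections of a smooth affine variety

`quotient_smoothRelDim_iff`: for `B` smooth of relative dimension `n ≥ 1` over an algebraically
closed field and `h ∈ B`, the algebra `B/(h)` is smooth of relative dimension `n - 1` if and only if
at every rational zero of `h` some point derivation does not kill `h`.
-/

set_option autoImplicit false
set_option linter.style.haveILetI false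
universe u

open KaehlerDifferential

namespace Groth.SGA7.DualVar

variable {k : Type u} [Field k] {B : Type u} [CommRing B] [Algebra k B]

/-- The point derivations at a rational point. -/
def pDer (c : B →ₐ[k] k) : Submodule k (B →ₗ[k] k) where
  carrier := {D | ∀ a b, D (a * b) = c a * D b + c b * D a}
  add_mem' := fun {D E} hD hE a b => by
    simp only [LinearMap.add_apply, hD a b, hE a b]; ring
  zero_mem' := fun a b => by simp
  smul_mem' := fun t D hD a b => by
    simp only [LinearMap.smul_apply, smul_eq_mul, hD a b]; ring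

theorem mem_pDer {c : B →ₐ[k] k} {D : B →ₗ[k] k} :
    D ∈ pDer c ↔ ∀ a b, D (a * b) = c a * D b + c b * D a := Iff.rfl

/-- The relative dimension of an algebra, read locally. -/
abbrev SmoothRelDim (n : ℕ) (k B : Type u) [CommRing k] [CommRing B] [Algebra k B] : Prop :=
  RingHom.Locally (RingHom.IsStandardSmoothOfRelativeDimension n) (algebraMap k B)

/-- The derivations into any field point of an algebra smooth of relative dimension `n`. -/
theorem finrank_derivation {n : ℕ} (hB : SmoothRelDim n k B) (K : Type u) [Field K] [Algebra k K]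
    [Algebra B K] [IsScalarTower k B K] : Module.finrank K (Derivation k B K) = n := by
  obtain ⟨s, hs, hloc⟩ := hB
  obtain ⟨f, hfs, hf⟩ : ∃ f ∈ s, algebraMap B K f ≠ 0 := by
    by_contra hcon
    push Not at hcon
    have h1 : Ideal.span s ≤ RingHom.ker (algebraMap B K) := Ideal.span_le.2 hcon
    rw [hs] at h1
    exact one_ne_zero ((map_one (algebraMap B K)).symm.trans (h1 (Submodule.mem_top (x := 1))))
  have hstd : Algebra.IsStandardSmoothOfRelativeDimension n k (Localization.Away f) := by
    rw [← RingHom.isStandardSmoothOfRelativeDimension_algebraMap, IsScalarTower.algebraMap_eq k B]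
    exact hloc f hfs
  haveI := hstd.isStandardSmooth
  have hu : IsUnit (algebraMap B K f) := isUnit_iff_ne_zero.2 hf
  letI : Algebra (Localization.Away f) K := (IsLocalization.Away.lift f hu).toAlgebra
  haveI : IsScalarTower B (Localization.Away f) K :=
    IsScalarTower.of_algebraMap_eq fun b => (IsLocalization.Away.lift_eq f hu b).symm
  haveI : IsScalarTower k (Localization.Away f) K := IsScalarTower.of_algebraMap_eq fun r => by
    rw [IsScalarTower.algebraMap_apply k B (Localization.Away f),
      ← IsScalarTower.algebraMap_apply B (Localization.Away f) K, ← IsScalarTower.algebraMap_apply k B K]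
  haveI : Nontrivial (Localization.Away f) := (algebraMap (Localization.Away f) K).domain_nontrivial
  have h := Groth.Misc12.RelDim.rank_kaehler_eq (R := k) (C := Localization.Away f) (K := K)
  rw [Algebra.IsStandardSmoothOfRelativeDimension.rank_kaehlerDifferential n,
    Groth.Misc12.RelDim.finrank_derivation_away k K f (Localization.Away f)] at h
  exact_mod_cast h.symm

theorem finrank_pDer {n : ℕ} (hB : SmoothRelDim n k B) (c : B →ₐ[k] k) :
    Module.finrank k (pDer c) = n := by
  letI : Algebra B k := c.toRingHom.toAlgebra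
  haveI : IsScalarTower k B k := IsScalarTower.of_algebraMap_eq fun r => (c.commutes r).symm
  let e : Derivation k B k ≃ₗ[k] pDer c :=
    { toFun := fun D => ⟨D.toLinearMap, fun a b => D.leibniz a b⟩
      map_add' := fun _ _ => rfl
      map_smul' := fun _ _ => rfl
      invFun := fun D => Derivation.mk' D.1 fun a b => D.2 a b
      left_inv := fun D => Derivation.ext fun _ => rfl
      right_inv := fun D => rfl }
  rw [← e.finrank_eq]
  exact finrank_derivation hB k

theorem finiteType_of_smoothRelDim {n : ℕ} (hB : SmoothRelDim n k B) : Algebra.Smooth k B := by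
  obtain ⟨s, hs, hloc⟩ := hB
  rw [← RingHom.smooth_algebraMap]
  refine RingHom.Smooth.propertyIsLocal.ofLocalizationSpanTarget _ s hs fun ⟨f, hf⟩ => ?_
  exact (hloc f hf).isStandardSmooth.smooth

/-- A rational point at each maximal ideal. -/
theorem exists_point [IsAlgClosed k] [Algebra.FiniteType k B] (p : Ideal B) [p.IsMaximal] :
    ∃ c : B →ₐ[k] k, ∀ b ∈ p, c b = 0 := by
  letI : Field (B ⧸ p) := Ideal.Quotient.field p
  haveI : Algebra.FiniteType k (B ⧸ p) :=
    Algebra.FiniteType.of_surjective (Ideal.Quotient.mkₐ k p) Ideal.Quotient.mk_surjective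
  haveI : Module.Finite k (B ⧸ p) := finite_of_finite_type_of_isJacobsonRing k (B ⧸ p)
  have hb : Function.Bijective (algebraMap k (B ⧸ p)) :=
    IsAlgClosed.algebraMap_bijective_of_isIntegral
  let e : k ≃ₐ[k] B ⧸ p := AlgEquiv.ofBijective (Algebra.ofId k (B ⧸ p)) hb
  refine ⟨e.symm.toAlgHom.comp (Ideal.Quotient.mkₐ k p), fun b hb => ?_⟩
  rw [AlgHom.comp_apply, Ideal.Quotient.mkₐ_eq_mk, Ideal.Quotient.eq_zero_iff_mem.2 hb]
  exact map_zero e.symm

/-- If a functional on differentials takes the value `1` at `dg` modulo `g`, then `B/(g)` is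
formally smooth. -/
theorem formallySmooth_quotient [Algebra.FormallySmooth k B] (g z : B) (r : Ω[B⁄k] →ₗ[B] B)
    (hr : r (D k B g) = 1 - z * g) : Algebra.FormallySmooth k (B ⧸ Ideal.span {g}) := by
  let S := B ⧸ Ideal.span {g}
  have hsurj : Function.Surjective (algebraMap B S) := Ideal.Quotient.mk_surjective
  rw [Algebra.FormallySmooth.iff_split_injection (R := k) (P := B) (A := S) hsurj]
  have hgker : g ∈ RingHom.ker (algebraMap B S) :=
    RingHom.mem_ker.2 (Ideal.Quotient.eq_zero_iff_mem.2 (Ideal.mem_span_singleton_self g))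
  let cls := (RingHom.ker (algebraMap B S)).toCotangent ⟨g, hgker⟩
  have hkill : ∀ w ∈ Ideal.span {g}, w • cls = 0 := by
    intro w hw
    obtain ⟨v, rfl⟩ := Ideal.mem_span_singleton'.1 hw
    rw [mul_smul, ← LinearMap.map_smul]
    have : (RingHom.ker (algebraMap B S)).toCotangent (g • ⟨g, hgker⟩) = 0 := by
      rw [Ideal.toCotangent_eq_zero, pow_two]
      exact Ideal.mul_mem_mul hgker hgker
    rw [this, smul_zero]
  let ls : S →ₗ[B] (RingHom.ker (algebraMap B S)).Cotangent :=
    Submodule.liftQ _ (LinearMap.toSpanSingleton B _ cls) fun w hw => hkill w hw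
  refine ⟨TensorProduct.lift (LinearMap.mk₂ B (fun (s : S) ω => r ω • ls s)
    (fun s s' ω => by rw [map_add, smul_add])
    (fun e s ω => by rw [map_smul, smul_comm])
    (fun s ω ω' => by rw [map_add, add_smul])
    (fun e s ω => by rw [map_smul, smul_eq_mul, mul_smul])), ?_⟩
  refine LinearMap.ext fun w => ?_
  obtain ⟨⟨w, hw⟩, rfl⟩ := Ideal.toCotangent_surjective _ w
  obtain ⟨v, hv⟩ := Ideal.mem_span_singleton'.1 (Ideal.Quotient.eq_zero_iff_mem.1 (RingHom.mem_ker.1 hw))
  subst hv
  rw [LinearMap.comp_apply, kerCotangentToTensor_toCotangent, TensorProduct.lift.tmul, LinearMap.id_apply]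
  change r (D k B (v * g)) • ls (Ideal.Quotient.mk _ 1) = _
  have hl1 : ls (Ideal.Quotient.mk _ 1) = cls := one_smul B cls
  have e1 : r (D k B (v * g)) • cls = v • cls := by
    have h : r (D k B (v * g)) = v + g * (r (D k B v) - v * z) := by
      rw [Derivation.leibniz, map_add, map_smul, map_smul, hr, smul_eq_mul, smul_eq_mul]
      ring
    rw [h, add_smul, hkill (g * (r (D k B v) - v * z))
      (Ideal.mem_span_singleton'.2 ⟨r (D k B v) - v * z, mul_comm _ _⟩), add_zero]
  rw [hl1, e1, ← LinearMap.map_smul]
  rfl

/-- A functional on differentials equal to one at `dh` modulo `h`, from nonvanishing at points. -/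
theorem exists_functional [IsAlgClosed k] [Algebra.FiniteType k B] [Algebra.FormallySmooth k B] (h : B)
    (H : ∀ c : B →ₐ[k] k, c h = 0 → ∃ D ∈ pDer c, D h ≠ 0) :
    ∃ (r : Ω[B⁄k] →ₗ[B] B) (z : B), r (D k B h) = 1 - z * h := by
  classical
  obtain ⟨N, ret, sec, -, -, hsec⟩ := Module.Finite.exists_comp_eq_id_of_projective B Ω[B⁄k]
  have hI : Ideal.span {h} ⊔ Ideal.span (Set.range fun j => sec (D k B h) j) = ⊤ := by
    by_contra hne
    obtain ⟨p, hp, hle⟩ := Ideal.exists_le_maximal _ hne
    obtain ⟨c, hc⟩ := exists_point (k := k) p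
    obtain ⟨E, hE, hEh⟩ := H c (hc h (hle (Ideal.mem_sup_left (Ideal.mem_span_singleton_self h))))
    letI : Algebra B k := c.toRingHom.toAlgebra
    haveI : IsScalarTower k B k := IsScalarTower.of_algebraMap_eq fun r => (c.commutes r).symm
    let E' : Derivation k B k := Derivation.mk' E fun a b => hE a b
    apply hEh
    have h0 : D k B h = ret (sec (D k B h)) := (LinearMap.congr_fun hsec _).symm
    have h1 : E h = E'.liftKaehlerDifferential (ret (sec (D k B h))) := by
      rw [← h0, Derivation.liftKaehlerDifferential_comp_D]; rfl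
    rw [h1, pi_eq_sum_univ (sec (D k B h)), map_sum, map_sum]
    refine Finset.sum_eq_zero fun j _ => ?_
    rw [map_smul, map_smul, Algebra.smul_def]
    have hj : algebraMap B k (sec (D k B h) j) = 0 :=
      hc _ (hle (Ideal.mem_sup_right (Ideal.subset_span ⟨j, rfl⟩)))
    rw [hj, zero_mul]
  obtain ⟨x, hx, y, hy, hxy⟩ := Submodule.mem_sup.1 (show (1 : B) ∈ _ from hI.symm ▸ Submodule.mem_top)
  obtain ⟨coef, hcoef⟩ := Ideal.mem_span_range_iff_exists_fun.1 hy
  obtain ⟨z, hz⟩ := Ideal.mem_span_singleton'.1 hx
  refine ⟨(∑ j, coef j • LinearMap.proj j) ∘ₗ sec, z, ?_⟩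
  simp only [LinearMap.comp_apply, LinearMap.coe_sum, Finset.sum_apply, LinearMap.smul_apply,
    LinearMap.proj_apply, smul_eq_mul]
  rw [hcoef, hz, ← hxy]; ring

section

variable (h : B) (K : Type u) [Field K] [Algebra k K] [Algebra (B ⧸ Ideal.span {h}) K] [Algebra B K]
  [IsScalarTower k B K] [IsScalarTower k (B ⧸ Ideal.span {h}) K] [IsScalarTower B (B ⧸ Ideal.span {h}) K]

/-- Evaluation of derivations at `h`. -/
def evalAt : Derivation k B K →ₗ[K] K where
  toFun E := E h
  map_add' _ _ := rfl
  map_smul' _ _ := rfl

/-- Derivations of the quotient are the derivations killing `h`. -/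
theorem finrank_derivation_quotient :
    Module.finrank K (Derivation k (B ⧸ Ideal.span {h}) K) =
      Module.finrank K (LinearMap.ker (evalAt h K : Derivation k B K →ₗ[K] K)) := by
  let res : Derivation k (B ⧸ Ideal.span {h}) K →ₗ[K] Derivation k B K :=
    { toFun := fun E => E.compAlgebraMap B
      map_add' := fun _ _ => rfl
      map_smul' := fun _ _ => rfl }
  have hres : Function.Injective res := fun E F hEF => Derivation.ext fun x => by
    obtain ⟨x, rfl⟩ := Ideal.Quotient.mk_surjective x
    exact Derivation.congr_fun hEF x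
  have hh : algebraMap B K h = 0 := by
    rw [IsScalarTower.algebraMap_apply B (B ⧸ Ideal.span {h}) K, Ideal.Quotient.algebraMap_eq,
      Ideal.Quotient.eq_zero_iff_mem.2 (Ideal.mem_span_singleton_self h), map_zero]
  have hrr : LinearMap.range res = LinearMap.ker (evalAt h K : Derivation k B K →ₗ[K] K) := by
    apply le_antisymm
    · rintro _ ⟨E, rfl⟩
      change E (Ideal.Quotient.mk _ h) = 0
      rw [Ideal.Quotient.eq_zero_iff_mem.2 (Ideal.mem_span_singleton_self h), map_zero]
    · intro E hE
      have hle : ∀ b ∈ (Ideal.span {h}).restrictScalars k, E b = 0 := by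
        intro b hb
        obtain ⟨v, rfl⟩ := Ideal.mem_span_singleton'.1 hb
        rw [E.leibniz, show E h = 0 from hE, smul_zero, zero_add, Algebra.smul_def, hh, zero_mul]
      let L : (B ⧸ Ideal.span {h}) →ₗ[k] K :=
        { toFun := fun x => Quotient.liftOn' x (fun b => E b) fun a b hab => by
            rw [Submodule.quotientRel_def] at hab
            have := hle (a - b) hab
            rwa [map_sub, sub_eq_zero] at this
          map_add' := by
            intro x y
            obtain ⟨x, rfl⟩ := Ideal.Quotient.mk_surjective x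
            obtain ⟨y, rfl⟩ := Ideal.Quotient.mk_surjective y
            exact map_add E x y
          map_smul' := by
            intro t x
            obtain ⟨x, rfl⟩ := Ideal.Quotient.mk_surjective x
            exact E.map_smul t x }
      refine ⟨Derivation.mk' L fun a b => ?_, Derivation.ext fun _ => rfl⟩
      obtain ⟨a, rfl⟩ := Ideal.Quotient.mk_surjective a
      obtain ⟨b, rfl⟩ := Ideal.Quotient.mk_surjective b
      rw [Algebra.smul_def, Algebra.smul_def]
      change E (a * b) = algebraMap (B ⧸ Ideal.span {h}) K (Ideal.Quotient.mk _ a) * E b +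
        algebraMap (B ⧸ Ideal.span {h}) K (Ideal.Quotient.mk _ b) * E a
      rw [E.leibniz, Algebra.smul_def, Algebra.smul_def, IsScalarTower.algebraMap_apply B (B ⧸ Ideal.span {h}) K a,
        IsScalarTower.algebraMap_apply B (B ⧸ Ideal.span {h}) K b]
      rfl
  rw [← hrr]
  exact (LinearMap.finrank_range_of_inj hres).symm

end

section
/-- The criterion for a section to be smooth of relative dimension one less. -/
theorem quotient_smoothRelDim_iff [IsAlgClosed k] {n : ℕ} (hn : 1 ≤ n) (hB : SmoothRelDim n k B)
    (h : B) :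
    SmoothRelDim (n - 1) k (B ⧸ Ideal.span {h}) ↔
      ∀ c : B →ₐ[k] k, c h = 0 → ∃ D ∈ pDer c, D h ≠ 0 := by
  haveI : Algebra.Smooth k B := finiteType_of_smoothRelDim hB
  constructor
  · intro hC c hc
    by_contra hcon
    push Not at hcon
    let cC : (B ⧸ Ideal.span {h}) →ₐ[k] k := Ideal.Quotient.liftₐ _ c fun b hb => by
      obtain ⟨v, rfl⟩ := Ideal.mem_span_singleton'.1 hb
      rw [map_mul, hc, mul_zero]
    letI : Algebra B k := c.toRingHom.toAlgebra
    haveI : IsScalarTower k B k := IsScalarTower.of_algebraMap_eq fun r => (c.commutes r).symm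
    letI : Algebra (B ⧸ Ideal.span {h}) k := cC.toRingHom.toAlgebra
    haveI : IsScalarTower k (B ⧸ Ideal.span {h}) k :=
      IsScalarTower.of_algebraMap_eq fun r => (cC.commutes r).symm
    haveI : IsScalarTower B (B ⧸ Ideal.span {h}) k := IsScalarTower.of_algebraMap_eq fun _ => rfl
    have h1 := finrank_derivation_quotient (k := k) h k
    have h0 : LinearMap.ker (evalAt h k : Derivation k B k →ₗ[k] k) = ⊤ :=
      eq_top_iff.2 fun E _ => hcon E.toLinearMap fun a b => E.leibniz a b
    rw [h0, finrank_top, finrank_derivation hB k, finrank_derivation hC k] at h1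
    omega
  · intro H
    obtain ⟨r, z, hr⟩ := exists_functional h H
    haveI : Algebra.FormallySmooth k (B ⧸ Ideal.span {h}) := formallySmooth_quotient h z r hr
    haveI : IsNoetherianRing B := Algebra.FiniteType.isNoetherianRing k B
    haveI : Algebra.Smooth k (B ⧸ Ideal.span {h}) :=
      ⟨inferInstance, Algebra.FinitePresentation.of_finiteType.1 inferInstance⟩
    have h1 := Groth.Misc12.RelDim.smoothOfRelativeDimension k (B ⧸ Ideal.span {h}) (n - 1) ?_
    · exact (AlgebraicGeometry.HasRingHomProperty.Spec_iff
        (P := @AlgebraicGeometry.SmoothOfRelativeDimension.{u} (n - 1))).1 h1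
    intro K _ _ _ _
    letI : Algebra B K := ((algebraMap (B ⧸ Ideal.span {h}) K).comp (Ideal.Quotient.mk _)).toAlgebra
    haveI : IsScalarTower B (B ⧸ Ideal.span {h}) K := IsScalarTower.of_algebraMap_eq fun _ => rfl
    haveI : IsScalarTower k B K := IsScalarTower.of_algebraMap_eq fun x => by
      rw [IsScalarTower.algebraMap_apply k (B ⧸ Ideal.span {h}) K]; rfl
    have hh : algebraMap B K h = 0 := by
      change algebraMap (B ⧸ Ideal.span {h}) K (Ideal.Quotient.mk _ h) = 0
      rw [Ideal.Quotient.eq_zero_iff_mem.2 (Ideal.mem_span_singleton_self h), map_zero]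
    let D₀ : Derivation k B K := ((Algebra.linearMap B K).comp r).compDer (D k B)
    have hD₀ : evalAt h K D₀ = 1 := by
      change algebraMap B K (r (D k B h)) = 1
      rw [hr, map_sub, map_one, map_mul, hh, mul_zero, sub_zero]
    have hrange : LinearMap.range (evalAt h K : Derivation k B K →ₗ[K] K) = ⊤ := by
      refine LinearMap.range_eq_top.2 fun t => ⟨t • D₀, ?_⟩
      rw [map_smul, hD₀, smul_eq_mul, mul_one]
    haveI : FiniteDimensional K (Derivation k B K) :=
      FiniteDimensional.of_finrank_pos (by rw [finrank_derivation hB K]; omega)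
    have h2 := LinearMap.finrank_range_add_finrank_ker (evalAt h K : Derivation k B K →ₗ[K] K)
    rw [hrange, finrank_top, Module.finrank_self, finrank_derivation hB K,
      ← finrank_derivation_quotient (k := k) h K] at h2
    omega

end

end Groth.SGA7.DualVar
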