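import Groth.Agent.SGA7.DualVar.Geometry
import Groth.Agent.ProjClosed.Kernel
import Mathlib.RingTheory.MvPolynomial.EulerIdentity

/-!
# Singular points of a section, read on the affine cone
-/

set_option autoImplicit false
set_option linter.style.haveILetI false

universe u

open CategoryTheory CategoryTheory.Limits AlgebraicGeometry Opposite TopologicalSpace
open MvPolynomial

namespace Groth.SGA7.DualVar

variable {k : Type u} [Field k] {r : ℕ} {X : Scheme.{u}} (i : X ⟶ CohB1.ProjSpace r k)

local notation "ℙg" => CohB1.polyGrading r k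

/-- The differential of `p` at `a`, as a functional. -/
noncomputable def dAt {m : ℕ} (p : MvPolynomial (Fin m) k) (a : Fin m → k) : (Fin m → k) →ₗ[k] k :=
  ∑ l, eval a (pderiv l p) • LinearMap.proj l

theorem dAt_apply {m : ℕ} (p : MvPolynomial (Fin m) k) (a w : Fin m → k) :
    dAt p a w = ∑ l, eval a (pderiv l p) * w l := by
  simp [dAt]

theorem dAt_add {m : ℕ} (p q : MvPolynomial (Fin m) k) (a w : Fin m → k) :
    dAt (p + q) a w = dAt p a w + dAt q a w := by
  simp only [dAt_apply, map_add, add_mul, Finset.sum_add_distrib]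

theorem dAt_mul {m : ℕ} (p q : MvPolynomial (Fin m) k) (a w : Fin m → k) :
    dAt (p * q) a w = eval a p * dAt q a w + eval a q * dAt p a w := by
  simp only [dAt_apply, pderiv_mul, map_add, map_mul, Finset.mul_sum, ← Finset.sum_add_distrib]
  exact Finset.sum_congr rfl fun l _ => by ring

/-- The point of the cone over a point of a chart. -/
def ins (j : Fin (r + 1)) (a : Fin r → k) : Fin (r + 1) → k := Fin.insertNth (α := fun _ => k) j 1 a

theorem ins_ne_zero (j : Fin (r + 1)) (a : Fin r → k) : ins j a ≠ 0 := fun h => by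
  have := congrFun h j
  rw [ins, Fin.insertNth_apply_same] at this
  exact one_ne_zero this

/-- Setting the `j`-th coordinate to one. -/
noncomputable def dehomog (j : Fin (r + 1)) : MvPolynomial (Fin (r + 1)) k →ₐ[k] MvPolynomial (Fin r) k :=
  aeval (PlaneCurve.affCoord j)

theorem affEq_eq {d : ℕ} (j : Fin (r + 1)) (G : LefPen.Form r k d) :
    PlaneCurve.affEq j G = dehomog j G.1 := by
  rw [dehomog, aeval_def, MvPolynomial.algebraMap_eq]
  rfl

theorem eval_dehomog (j : Fin (r + 1)) (a : Fin r → k) (P : MvPolynomial (Fin (r + 1)) k) :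
    eval a (dehomog j P) = eval (ins j a) P := by
  suffices h : (eval a).comp (dehomog j).toRingHom = eval (ins j a) from RingHom.congr_fun h P
  refine ringHom_ext (fun c => by simp [dehomog]) fun l => ?_
  refine Fin.succAboveCases j ?_ (fun m => ?_) l
  · simp [dehomog, PlaneCurve.affCoord, ins]
  · simp [dehomog, PlaneCurve.affCoord, ins]

theorem pderiv_dehomog (j : Fin (r + 1)) (l : Fin r) (P : MvPolynomial (Fin (r + 1)) k) :
    pderiv l (dehomog j P) = dehomog j (pderiv (j.succAbove l) P) := by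
  induction P using MvPolynomial.induction_on with
  | C c => simp [dehomog]
  | add p q hp hq => simp only [map_add, hp, hq]
  | mul_X p m hp =>
    have hX : pderiv l (dehomog j (MvPolynomial.X m : MvPolynomial (Fin (r + 1)) k)) =
        dehomog j (pderiv (j.succAbove l) (MvPolynomial.X m)) := by
      refine Fin.succAboveCases j ?_ (fun m' => ?_) m
      · rw [pderiv_X_of_ne (Fin.succAbove_ne j l).symm]
        simp [dehomog, PlaneCurve.affCoord]
      · rcases eq_or_ne m' l with rfl | hne
        · simp [dehomog, PlaneCurve.affCoord]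
        · rw [pderiv_X_of_ne fun h => hne (Fin.succAbove_right_injective h)]
          simp [dehomog, PlaneCurve.affCoord, pderiv_X_of_ne hne]
    rw [map_mul, pderiv_mul, pderiv_mul, map_add, map_mul, map_mul, hp, hX]

theorem dAt_dehomog (j : Fin (r + 1)) (a : Fin r → k) (P : MvPolynomial (Fin (r + 1)) k) (w : Fin r → k) :
    dAt (dehomog j P) a w = dAt P (ins j a) (Fin.insertNth (α := fun _ => k) j 0 w) := by
  rw [dAt_apply, dAt_apply, Fin.sum_univ_succAbove _ j, Fin.insertNth_apply_same, mul_zero, zero_add]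
  refine Finset.sum_congr rfl fun l _ => ?_
  rw [Fin.insertNth_apply_succAbove, pderiv_dehomog, eval_dehomog]

theorem euler {e : ℕ} {P : MvPolynomial (Fin (r + 1)) k} (hP : P.IsHomogeneous e) (v : Fin (r + 1) → k) :
    dAt P v v = (e : k) * eval v P := by
  have h := congrArg (eval v) hP.sum_X_mul_pderiv
  simp only [map_sum, map_mul, eval_X, nsmul_eq_mul, map_natCast] at h
  rw [dAt_apply, ← h]
  exact Finset.sum_congr rfl fun l _ => mul_comm _ _

theorem eval_smul {m e : ℕ} {P : MvPolynomial (Fin m) k} (hP : P.IsHomogeneous e) (t : k) (v : Fin m → k) :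
    eval (t • v) P = t ^ e * eval v P := by
  rw [eval_eq, eval_eq, Finset.mul_sum]
  refine Finset.sum_congr rfl fun d hd => ?_
  have hdeg : ∑ l ∈ d.support, d l = e := by
    have := hP (mem_support_iff.1 hd)
    simpa [Finsupp.weight_apply, Finsupp.sum] using this
  simp only [Pi.smul_apply, smul_eq_mul, mul_pow, Finset.prod_mul_distrib]
  rw [Finset.prod_pow_eq_pow_sum, hdeg]
  ring

theorem dAt_smul {e : ℕ} {P : MvPolynomial (Fin (r + 1)) k} (hP : P.IsHomogeneous e) (t : k)
    (v w : Fin (r + 1) → k) : dAt P (t • v) w = t ^ (e - 1) * dAt P v w := by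
  rw [dAt_apply, dAt_apply, Finset.mul_sum]
  refine Finset.sum_congr rfl fun l _ => ?_
  rw [eval_smul hP.pderiv t v, mul_assoc]

/-- The coordinates, as a finite set. -/
noncomputable def coords (r : ℕ) (k : Type u) [Field k] : Finset (MvPolynomial (Fin (r + 1)) k) :=
  (Set.finite_range MvPolynomial.X).toFinset

theorem X_mem_coords (j : Fin (r + 1)) : (MvPolynomial.X j : MvPolynomial (Fin (r + 1)) k) ∈ coords r k :=
  (Set.Finite.mem_toFinset _).2 ⟨j, rfl⟩

theorem coords_deg : ∀ f ∈ coords r k, f ∈ ℙg 1 := by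
  intro f hf
  obtain ⟨j, rfl⟩ := (Set.Finite.mem_toFinset _).1 hf
  exact LefPen.X_mem r k j

/-- The homogeneous ideal of `X`. -/
noncomputable def coneIdeal : Ideal (MvPolynomial (Fin (r + 1)) k) :=
  Groth.ProjClosed.idealOf i (coords r k : Set (MvPolynomial (Fin (r + 1)) k))

variable [IsClosedImmersion i]

omit [IsClosedImmersion i] in
theorem dehomog_mem {e : ℕ} {G : MvPolynomial (Fin (r + 1)) k} (hG : G ∈ coneIdeal i) (he : G ∈ ℙg e)
    (j : Fin (r + 1)) : dehomog j G ∈ chartIdeal i j := by
  have h := Groth.ProjClosed.vanishes_of_mem i _ hG he (MvPolynomial.X j) (X_mem_coords j)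
    (LefPen.X_mem r k j) he
  rw [← affEq_eq j (⟨G, he⟩ : LefPen.Form r k e), chartIdeal, RingHom.mem_ker]
  exact (congrArg (Groth.ProjClosed.chartHom i (MvPolynomial.X j)) (PlaneCurve.toAway_affEq j _)).trans h

theorem exists_form_of_mem_chartIdeal {j : Fin (r + 1)} {p : MvPolynomial (Fin r) k}
    (hp : p ∈ chartIdeal i j) : ∃ (e : ℕ) (G : MvPolynomial (Fin (r + 1)) k),
      G ∈ coneIdeal i ∧ G ∈ ℙg e ∧ dehomog j G = p := by
  obtain ⟨m, a, ha, hz⟩ := Groth.ProjClosed.fr_surjective (LefPen.X_mem r k j) (PlaneCurve.toAway j p)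
  have h0 : Groth.ProjClosed.chartHom i (MvPolynomial.X j)
      (Groth.ProjClosed.fr (coords_deg _ (X_mem_coords j)) m a ha) = 0 :=
    (congrArg (Groth.ProjClosed.chartHom i (MvPolynomial.X j)) hz).trans hp
  haveI : @IsAffineHom X (Proj ℙg) i := (inferInstance : IsAffineHom i)
  obtain ⟨N, hN⟩ := Groth.ProjClosed.exists_pow_mul_mem_idealOf i (coords r k) coords_deg
    (X_mem_coords j) ha h0
  refine ⟨N + m, _, hN, SetLike.mul_mem_graded (by simpa using SetLike.pow_mem_graded N (LefPen.X_mem r k j)) ha, ?_⟩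
  have hX : dehomog j (MvPolynomial.X j : MvPolynomial (Fin (r + 1)) k) = 1 := by
    simp [dehomog, PlaneCurve.affCoord]
  rw [map_mul, map_pow, hX, one_pow, one_mul, ← affEq_eq j (⟨a, ha⟩ : LefPen.Form r k m),
    ← PlaneCurve.ofAway_toAway j p, ← hz]
  refine (PlaneCurve.ofAway_toAway j _).symm.trans (congrArg (PlaneCurve.ofAway j) ?_)
  exact PlaneCurve.toAway_affEq j (⟨a, ha⟩ : LefPen.Form r k m)

/-- `v` is on the affine cone over `X`. -/
def InCone (v : Fin (r + 1) → k) : Prop :=
  ∀ (e : ℕ) (G : MvPolynomial (Fin (r + 1)) k), G ∈ coneIdeal i → G ∈ ℙg e → eval v G = 0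

/-- The tangent space to the cone. -/
noncomputable def coneTan (v : Fin (r + 1) → k) : Submodule k (Fin (r + 1) → k) :=
  ⨅ (G : {G : MvPolynomial (Fin (r + 1)) k // G ∈ coneIdeal i ∧ ∃ e, G ∈ ℙg e}), LinearMap.ker (dAt G.1 v)

omit [IsClosedImmersion i] in
theorem mem_coneTan {v w : Fin (r + 1) → k} :
    w ∈ coneTan i v ↔ ∀ (e : ℕ) (G : MvPolynomial (Fin (r + 1)) k), G ∈ coneIdeal i → G ∈ ℙg e → dAt G v w = 0 := by
  simp only [coneTan, Submodule.mem_iInf, LinearMap.mem_ker, Subtype.forall]
  exact ⟨fun h e G h1 h2 => h G ⟨h1, e, h2⟩, fun h G hG => h _ G hG.1 hG.2.choose_spec⟩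

/-- The hypersurface of `H` is tangent to `X` at the point of the cone `v`. -/
def ConeSing {d : ℕ} (H : LefPen.Form r k d) (v : Fin (r + 1) → k) : Prop :=
  InCone i v ∧ eval v H.1 = 0 ∧ coneTan i v ≤ LinearMap.ker (dAt H.1 v)

/-- The tangent space to `X` in a chart. -/
noncomputable def chartTan (j : Fin (r + 1)) (a : Fin r → k) : Submodule k (Fin r → k) :=
  ⨅ p : chartIdeal i j, LinearMap.ker (dAt p.1 a)

omit [IsClosedImmersion i] in
theorem mem_chartTan {j : Fin (r + 1)} {a w : Fin r → k} :
    w ∈ chartTan i j a ↔ ∀ p ∈ chartIdeal i j, dAt p a w = 0 := by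
  simp [chartTan, Submodule.mem_iInf]

theorem inCone_ins {j : Fin (r + 1)} {a : Fin r → k} :
    InCone i (ins j a) ↔ ∀ p ∈ chartIdeal i j, eval a p = 0 := by
  constructor
  · intro h p hp
    obtain ⟨e, G, hG, he, rfl⟩ := exists_form_of_mem_chartIdeal i hp
    rw [eval_dehomog]
    exact h e G hG he
  · intro h e G hG he
    rw [← eval_dehomog]
    exact h _ (dehomog_mem i hG he j)

omit [IsClosedImmersion i] in
theorem self_mem_coneTan {v : Fin (r + 1) → k} (hv : InCone i v) : v ∈ coneTan i v :=
  (mem_coneTan i).2 fun e G hG he => by rw [euler ((mem_homogeneousSubmodule _ _).1 he), hv e G hG he, mul_zero]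

theorem insert_mem_coneTan {j : Fin (r + 1)} {a w : Fin r → k} :
    Fin.insertNth (α := fun _ => k) j 0 w ∈ coneTan i (ins j a) ↔ w ∈ chartTan i j a := by
  rw [mem_coneTan, mem_chartTan]
  constructor
  · intro h p hp
    obtain ⟨e, G, hG, he, rfl⟩ := exists_form_of_mem_chartIdeal i hp
    rw [dAt_dehomog]
    exact h e G hG he
  · intro h e G hG he
    rw [← dAt_dehomog]
    exact h _ (dehomog_mem i hG he j)

omit [IsClosedImmersion i] in
theorem decompose_coord (j : Fin (r + 1)) (a : Fin r → k) (w : Fin (r + 1) → k) :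
    w = Fin.insertNth (α := fun _ => k) j 0 (fun l => w (j.succAbove l) - w j * a l) + w j • ins j a := by
  funext m
  refine Fin.succAboveCases j ?_ (fun l => ?_) m
  · simp [ins]
  · simp [ins]

/-- The cone tangent space splits off the line of the point. -/
theorem finrank_coneTan {j : Fin (r + 1)} {a : Fin r → k} (ha : InCone i (ins j a)) :
    Module.finrank k (coneTan i (ins j a)) = Module.finrank k (chartTan i j a) + 1 := by
  let f : (chartTan i j a × k) →ₗ[k] coneTan i (ins j a) :=
    { toFun := fun p => ⟨Fin.insertNth (α := fun _ => k) j 0 p.1.1 + p.2 • ins j a,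
        add_mem ((insert_mem_coneTan i).2 p.1.2) (Submodule.smul_mem _ _ (self_mem_coneTan i ha))⟩
      map_add' := fun p q => Subtype.ext <| funext fun m => by
        change (Fin.insertNth (α := fun _ => k) j 0 (p.1.1 + q.1.1) + (p.2 + q.2) • ins j a) m =
          (Fin.insertNth (α := fun _ => k) j 0 p.1.1 + p.2 • ins j a +
            (Fin.insertNth (α := fun _ => k) j 0 q.1.1 + q.2 • ins j a)) m
        refine Fin.succAboveCases j ?_ (fun l => ?_) m <;> simp [ins] <;> ring
      map_smul' := fun t p => Subtype.ext <| funext fun m => by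
        change (Fin.insertNth (α := fun _ => k) j 0 (t • p.1.1) + (t • p.2) • ins j a) m =
          (t • (Fin.insertNth (α := fun _ => k) j 0 p.1.1 + p.2 • ins j a)) m
        refine Fin.succAboveCases j ?_ (fun l => ?_) m <;> simp [ins] <;> ring }
  have hf : Function.Bijective f := by
    refine ⟨?_, fun w => ?_⟩
    · rw [injective_iff_map_eq_zero]
      intro p hp
      have h : Fin.insertNth (α := fun _ => k) j 0 p.1.1 + p.2 • ins j a = 0 := congrArg Subtype.val hp
      have h2 : p.2 = 0 := by simpa [ins] using congrFun h j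
      refine Prod.ext (Subtype.ext (funext fun l => ?_)) h2
      simpa [ins, h2] using congrFun h (j.succAbove l)
    · have hw := decompose_coord j a w.1
      have hmem : (fun l => w.1 (j.succAbove l) - w.1 j * a l) ∈ chartTan i j a := by
        rw [← insert_mem_coneTan i]
        have : Fin.insertNth (α := fun _ => k) j 0 (fun l => w.1 (j.succAbove l) - w.1 j * a l) =
            w.1 - w.1 j • ins j a := eq_sub_of_add_eq hw.symm
        rw [this]
        exact sub_mem w.2 (Submodule.smul_mem _ _ (self_mem_coneTan i ha))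
      exact ⟨(⟨_, hmem⟩, w.1 j), Subtype.ext hw.symm⟩
  rw [← (LinearEquiv.ofBijective f hf).finrank_eq]
  simp

theorem coneSing_ins_iff {d : ℕ} (H : LefPen.Form r k d) (j : Fin (r + 1)) (a : Fin r → k) :
    ConeSing i H (ins j a) ↔ InCone i (ins j a) ∧ eval a (PlaneCurve.affEq j H) = 0 ∧
      ∀ w ∈ chartTan i j a, dAt (PlaneCurve.affEq j H) a w = 0 := by
  rw [ConeSing, affEq_eq, eval_dehomog]
  refine and_congr_right fun ha => and_congr_right fun h0 => ⟨fun h w hw => ?_, fun h w hw => ?_⟩
  · rw [dAt_dehomog]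
    exact h ((insert_mem_coneTan i).2 hw)
  · rw [LinearMap.mem_ker, decompose_coord j a w, map_add, map_smul,
      euler ((mem_homogeneousSubmodule _ _).1 H.2), h0, mul_zero, smul_zero, add_zero, ← dAt_dehomog]
    refine h _ ((insert_mem_coneTan i).1 ?_)
    have : Fin.insertNth (α := fun _ => k) j 0 (fun l => w (j.succAbove l) - w j * a l) =
        w - w j • ins j a := eq_sub_of_add_eq (decompose_coord j a w).symm
    rw [this]
    exact sub_mem hw (Submodule.smul_mem _ _ (self_mem_coneTan i ha))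

omit [IsClosedImmersion i] in
theorem InCone.smul {v : Fin (r + 1) → k} (hv : InCone i v) (t : k) : InCone i (t • v) :=
  fun e G hG he => by rw [eval_smul ((mem_homogeneousSubmodule _ _).1 he), hv e G hG he, mul_zero]

omit [IsClosedImmersion i] in
theorem coneTan_smul {v : Fin (r + 1) → k} {t : k} (ht : t ≠ 0) : coneTan i (t • v) = coneTan i v := by
  ext w
  simp only [mem_coneTan]
  refine forall₂_congr fun e G => forall₂_congr fun hG he => ?_
  rw [dAt_smul ((mem_homogeneousSubmodule _ _).1 he), mul_eq_zero]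
  exact or_iff_right (pow_ne_zero _ ht)

omit [IsClosedImmersion i] in
theorem ConeSing.smul {d : ℕ} {H : LefPen.Form r k d} {v : Fin (r + 1) → k} (h : ConeSing i H v)
    {t : k} (ht : t ≠ 0) : ConeSing i H (t • v) := by
  refine ⟨h.1.smul i t, by rw [eval_smul ((mem_homogeneousSubmodule _ _).1 H.2), h.2.1, mul_zero], ?_⟩
  rw [coneTan_smul i ht]
  intro w hw
  rw [LinearMap.mem_ker, dAt_smul ((mem_homogeneousSubmodule _ _).1 H.2), LinearMap.mem_ker.1 (h.2.2 hw), mul_zero]

omit [IsClosedImmersion i] in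
theorem exists_ins_eq {v : Fin (r + 1) → k} {j : Fin (r + 1)} (hj : v j ≠ 0) :
    ins j (fun l => (v j)⁻¹ * v (j.succAbove l)) = (v j)⁻¹ • v := by
  funext m
  refine Fin.succAboveCases j ?_ (fun l => ?_) m
  · simp [ins, hj]
  · simp [ins]

omit [IsClosedImmersion i] in
theorem dAt_eq_D {j : Fin (r + 1)} {c : (MvPolynomial (Fin r) k ⧸ chartIdeal i j) →ₐ[k] k}
    {D : (MvPolynomial (Fin r) k ⧸ chartIdeal i j) →ₗ[k] k} (hD : D ∈ pDer c) (p : MvPolynomial (Fin r) k) :
    D (Ideal.Quotient.mk _ p) =
      dAt p (fun l => c (Ideal.Quotient.mk _ (MvPolynomial.X l))) (fun l => D (Ideal.Quotient.mk _ (MvPolynomial.X l))) := by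
  classical
  have hev : ∀ q : MvPolynomial (Fin r) k, c (Ideal.Quotient.mk _ q) =
      eval (fun l => c (Ideal.Quotient.mk _ (MvPolynomial.X l))) q := fun q => by
    have : c.comp (Ideal.Quotient.mkₐ k (chartIdeal i j)) =
        aeval (fun l => c (Ideal.Quotient.mk _ (MvPolynomial.X l))) := algHom_ext fun l => by simp
    have h := DFunLike.congr_fun this q
    rwa [AlgHom.comp_apply, Ideal.Quotient.mkₐ_eq_mk, aeval_eq_eval] at h
  induction p using MvPolynomial.induction_on with
  | C t =>
    have h1 : D 1 = 0 := by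
      have := hD 1 1
      simp only [mul_one, map_one, one_mul] at this
      exact left_eq_add.1 this
    have h2 : Ideal.Quotient.mk (chartIdeal i j) (MvPolynomial.C t) =
        t • (1 : MvPolynomial (Fin r) k ⧸ chartIdeal i j) := by
      rw [← Algebra.algebraMap_eq_smul_one]; rfl
    rw [h2, map_smul, h1, smul_zero, dAt_apply]
    simp
  | add p q hp hq => rw [map_add, map_add, hp, hq, dAt_add]
  | mul_X p l hp =>
    rw [map_mul, mem_pDer.1 hD, hp, dAt_mul, hev, hev, eval_X, dAt_apply (MvPolynomial.X l)]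
    congr 2
    rw [Finset.sum_eq_single l (fun m _ hm => by rw [pderiv_X_of_ne hm.symm, map_zero, zero_mul])
      (fun h => absurd (Finset.mem_univ l) h), pderiv_X_self, map_one, one_mul]

omit [IsClosedImmersion i] in
/-- A tangent vector as a point derivation. -/
theorem exists_pDer_of_chartTan {j : Fin (r + 1)} {a w : Fin r → k} (ha : ∀ p ∈ chartIdeal i j, eval a p = 0)
    (hw : w ∈ chartTan i j a) (c : (MvPolynomial (Fin r) k ⧸ chartIdeal i j) →ₐ[k] k)
    (hc : ∀ p, c (Ideal.Quotient.mk _ p) = eval a p) :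
    ∃ D ∈ pDer c, ∀ p, D (Ideal.Quotient.mk _ p) = dAt p a w := by
  let L : MvPolynomial (Fin r) k →ₗ[k] k :=
    { toFun := fun p => dAt p a w
      map_add' := fun p q => dAt_add p q a w
      map_smul' := fun t p => by
        rw [MvPolynomial.smul_eq_C_mul, dAt_mul, eval_C, dAt_apply (MvPolynomial.C t)]
        simp }
  refine ⟨((chartIdeal i j).restrictScalars k).liftQ L fun p hp => (mem_chartTan i).1 hw p hp,
    fun x y => ?_, fun p => rfl⟩
  obtain ⟨x, rfl⟩ := Ideal.Quotient.mk_surjective x
  obtain ⟨y, rfl⟩ := Ideal.Quotient.mk_surjective y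
  rw [hc, hc]
  exact dAt_mul x y a w

/-- A rational point of a chart from a point of the cone. -/
noncomputable def pointOf {j : Fin (r + 1)} (a : Fin r → k) (ha : ∀ p ∈ chartIdeal i j, eval a p = 0) :
    (MvPolynomial (Fin r) k ⧸ chartIdeal i j) →ₐ[k] k :=
  Ideal.Quotient.liftₐ _ (aeval a) fun p hp => by rw [aeval_eq_eval]; exact ha p hp

theorem pointOf_mk {j : Fin (r + 1)} (a : Fin r → k) (ha : ∀ p ∈ chartIdeal i j, eval a p = 0)
    (p : MvPolynomial (Fin r) k) : pointOf i a ha (Ideal.Quotient.mk _ p) = eval a p := by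
  rw [← aeval_eq_eval]
  rfl

variable {n : ℕ} [SmoothOfRelativeDimension n (i ≫ CohB1.ProjSpace.toSpec r k)]

theorem finrank_chartTan {j : Fin (r + 1)} {a : Fin r → k} (ha : InCone i (ins j a)) :
    Module.finrank k (chartTan i j a) = n := by
  rw [inCone_ins] at ha
  let c := pointOf i a ha
  have hc : ∀ p, c (Ideal.Quotient.mk _ p) = eval a p := pointOf_mk i a ha
  have hca : (fun l => c (Ideal.Quotient.mk _ (MvPolynomial.X l))) = a := funext fun l => by rw [hc, eval_X]
  let f : pDer c →ₗ[k] chartTan i j a :=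
    { toFun := fun D => ⟨fun l => D.1 (Ideal.Quotient.mk _ (MvPolynomial.X l)), (mem_chartTan i).2 fun p hp => by
        have h := dAt_eq_D i D.2 p
        rw [hca] at h
        rw [← h, Ideal.Quotient.eq_zero_iff_mem.2 hp, map_zero]⟩
      map_add' := fun _ _ => rfl
      map_smul' := fun _ _ => rfl }
  have hf : Function.Bijective f := by
    refine ⟨fun D E h => Subtype.ext (LinearMap.ext fun x => ?_), fun w => ?_⟩
    · obtain ⟨x, rfl⟩ := Ideal.Quotient.mk_surjective x
      rw [dAt_eq_D i D.2, dAt_eq_D i E.2]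
      exact congrArg (fun w : Fin r → k => dAt x _ w) (congrArg Subtype.val h)
    · obtain ⟨D, hD, hDp⟩ := exists_pDer_of_chartTan i ha w.2 c hc
      refine ⟨⟨D, hD⟩, Subtype.ext (funext fun l => ?_)⟩
      change D _ = w.1 l
      rw [hDp, dAt_apply, Finset.sum_eq_single l
        (fun m _ hm => by rw [pderiv_X_of_ne hm.symm, map_zero, zero_mul])
        (fun h => absurd (Finset.mem_univ l) h), pderiv_X_self, map_one, one_mul]
  rw [← (LinearEquiv.ofBijective f hf).finrank_eq]
  exact finrank_pDer (smoothRelDim_chart i j) c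

/-- Transversality, read on the cone. -/
theorem transversal_iff_coneSing [IsAlgClosed k] (hn : 1 ≤ n) {d : ℕ} (H : LefPen.Form r k d) :
    LefPen.Transversal k n 1 (LefPen.secToSpec i ({H} : Set (LefPen.Form r k d))) ↔
      ∀ v : Fin (r + 1) → k, v ≠ 0 → ¬ ConeSing i H v := by
  rw [transversal_iff i hn H]
  constructor
  · intro h v hv hS
    obtain ⟨j, hj⟩ := Function.ne_iff.1 hv
    have hS' := hS.smul i (inv_ne_zero hj)
    rw [← exists_ins_eq hj, coneSing_ins_iff] at hS'
    obtain ⟨hin, h0, ht⟩ := hS'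
    rw [inCone_ins] at hin
    have hc : ∀ p, pointOf i _ hin (Ideal.Quotient.mk _ p) = eval (fun l => (v j)⁻¹ * v (j.succAbove l)) p :=
      pointOf_mk i _ hin
    refine h j (pointOf i _ hin) ⟨(hc _).trans h0, fun D hD => ?_⟩
    rw [dAt_eq_D i hD]
    have hca : (fun l => pointOf i _ hin (Ideal.Quotient.mk _ (MvPolynomial.X l))) =
        fun l => (v j)⁻¹ * v (j.succAbove l) := funext fun l => by rw [hc, eval_X]
    rw [hca]
    refine ht _ ((mem_chartTan i).2 fun p hp => ?_)
    have h1 := dAt_eq_D i hD p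
    rw [hca] at h1
    rw [← h1, Ideal.Quotient.eq_zero_iff_mem.2 hp, map_zero]
  · rintro h j c ⟨hc0, hcD⟩
    let a : Fin r → k := fun l => c (Ideal.Quotient.mk _ (MvPolynomial.X l))
    have hc : ∀ p, c (Ideal.Quotient.mk _ p) = eval a p := fun p => by
      have : c.comp (Ideal.Quotient.mkₐ k (chartIdeal i j)) = aeval a := algHom_ext fun l => by simp [a]
      have h' := DFunLike.congr_fun this p
      rwa [AlgHom.comp_apply, Ideal.Quotient.mkₐ_eq_mk, aeval_eq_eval] at h'
    have ha : ∀ p ∈ chartIdeal i j, eval a p = 0 := fun p hp => by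
      rw [← hc, Ideal.Quotient.eq_zero_iff_mem.2 hp, map_zero]
    refine h (ins j a) (ins_ne_zero j a) ((coneSing_ins_iff i H j a).2 ⟨(inCone_ins i).2 ha, ?_, fun w hw => ?_⟩)
    · rw [← hc]; exact hc0
    · obtain ⟨D, hD, hDp⟩ := exists_pDer_of_chartTan i ha hw c hc
      rw [← hDp]
      exact hcD D hD

end Groth.SGA7.DualVar
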