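import Groth.Prelude.Def_LefPen
import Groth.Agent.PlaneCurve.SmoothChart
import Groth.Agent.BlowUpBasics.IdealComap
import Groth.Agent.ProjClosed.Kernel
import Groth.Agent.SGA7.DualVar.Algebra
import Mathlib.AlgebraicGeometry.Morphisms.Smooth

/-!
# Transversal hypersurface sections, read in charts

For a closed subscheme `X` of `P^r_k` smooth of dimension `n`, a hypersurface section is transversal
if and only if in no chart a rational point of the section is singular.
-/

set_option autoImplicit false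
set_option linter.style.haveILetI false

universe u

open CategoryTheory CategoryTheory.Limits AlgebraicGeometry Opposite TopologicalSpace
open HomogeneousLocalization MvPolynomial

namespace Groth.SGA7.DualVar

variable {k : Type u} [Field k] {r : ℕ} {X : Scheme.{u}} (i : X ⟶ CohB1.ProjSpace r k)

local notation "ℙg" => CohB1.polyGrading r k

/-- The coordinate ring of a chart, onto the sections over the trace on `X`. -/
noncomputable def chartPi (j : Fin (r + 1)) :
    MvPolynomial (Fin r) k →+* Γ(X, i ⁻¹ᵁ LefPen.chart r k j) :=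
  (Groth.ProjClosed.chartHom i (MvPolynomial.X j)).comp (PlaneCurve.toAway j)

/-- The equations of `X` in a chart. -/
noncomputable def chartIdeal (j : Fin (r + 1)) : Ideal (MvPolynomial (Fin r) k) :=
  RingHom.ker (chartPi i j)

/-- The chart as an affine open. -/
noncomputable abbrev chartAff (j : Fin (r + 1)) : (CohB1.ProjSpace r k).affineOpens :=
  ⟨LefPen.chart r k j, Proj.isAffineOpen_basicOpen ℙg _ (LefPen.X_mem r k j) one_pos⟩

theorem awayToSection_bijective (j : Fin (r + 1)) :
    Function.Bijective (Proj.awayToSection ℙg (MvPolynomial.X j)).hom :=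
  ConcreteCategory.bijective_of_isIso
    (Proj.basicOpenIsoAway ℙg (MvPolynomial.X j) (LefPen.X_mem r k j) one_pos).hom

variable [IsClosedImmersion i]

theorem chartPi_surjective (j : Fin (r + 1)) : Function.Surjective (chartPi i j) := by
  intro y
  obtain ⟨x, rfl⟩ := Scheme.Hom.app_surjective i (LefPen.chart r k j) (chartAff j).2 y
  obtain ⟨z, rfl⟩ := (awayToSection_bijective j).2 x
  refine ⟨PlaneCurve.ofAway j z, ?_⟩
  exact congrArg (Groth.ProjClosed.chartHom i (MvPolynomial.X j)) (PlaneCurve.toAway_ofAway j z)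

omit [IsClosedImmersion i] in
theorem iSup_chart : ⨆ j : Fin (r + 1), i ⁻¹ᵁ LefPen.chart r k j = ⊤ := by
  rw [← Scheme.Hom.preimage_iSup,
    show ⨆ j, LefPen.chart r k j = ⊤ from
      Proj.iSup_basicOpen_eq_top ℙg _ Groth.Chow.ToPn.irrelevant_le_span_X]
  rfl

omit [IsClosedImmersion i] in
/-- Scalars in a chart. -/
theorem appLE_scalar {Y : Scheme.{u}} (q : Y ⟶ X) (j : Fin (r + 1)) (c : k) :
    (q ≫ i ≫ CohB1.ProjSpace.toSpec r k).appLE ⊤ (q ⁻¹ᵁ i ⁻¹ᵁ LefPen.chart r k j) le_top
        ((Scheme.ΓSpecIso (CommRingCat.of k)).inv c) =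
      q.app (i ⁻¹ᵁ LefPen.chart r k j) (chartPi i j (MvPolynomial.C c)) := by
  have e0 : (q ≫ i ≫ CohB1.ProjSpace.toSpec r k).appLE ⊤ (q ⁻¹ᵁ i ⁻¹ᵁ LefPen.chart r k j) le_top =
      (CohB1.ProjSpace.toSpec r k).appLE ⊤ (LefPen.chart r k j) le_top ≫
        i.app (LefPen.chart r k j) ≫ q.app (i ⁻¹ᵁ LefPen.chart r k j) := by
    rw [Scheme.Hom.app_eq_appLE, Scheme.Hom.app_eq_appLE, Scheme.Hom.appLE_comp_appLE,
      Scheme.Hom.appLE_comp_appLE]
    rfl
  rw [e0, CommRingCat.comp_apply, PlaneCurve.appLE_toSpec]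
  have hC : PlaneCurve.toAway j (MvPolynomial.C c) = Misc3Bertini.scalar k r j c :=
    MvPolynomial.eval₂Hom_C _ _ _
  rw [← hC]
  rfl

/-- Relative dimension in a chart is relative dimension of the quotient ring. -/
theorem locally_appLE_iff {Y : Scheme.{u}} (g : Y ⟶ Spec (CommRingCat.of k)) (V : Y.affineOpens)
    (m : ℕ) {B : Type u} [CommRing B] [Algebra k B] (φ : B →+* Γ(Y, V.1))
    (hφ : Function.Surjective φ) (J : Ideal B) (hJ : RingHom.ker φ = J)
    (hc : ∀ c : k, g.appLE ⊤ V.1 le_top ((Scheme.ΓSpecIso (CommRingCat.of k)).inv c) = φ (algebraMap k B c)) :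
    RingHom.Locally (RingHom.IsStandardSmoothOfRelativeDimension m) (g.appLE ⊤ V.1 le_top).hom ↔
      SmoothRelDim m k (B ⧸ J) := by
  subst hJ
  let E := RingHom.quotientKerEquivOfSurjective hφ
  let e := (Scheme.ΓSpecIso (CommRingCat.of k)).commRingCatIsoToRingEquiv
  have hr := (HasRingHomProperty.isLocal_ringHomProperty (@SmoothOfRelativeDimension.{u} m)
    (Q := RingHom.Locally (RingHom.IsStandardSmoothOfRelativeDimension m))).respectsIso
  have hcomp : (g.appLE ⊤ V.1 le_top).hom =
      (E.toRingHom.comp (algebraMap k (B ⧸ RingHom.ker φ))).comp e.toRingHom := by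
    refine RingHom.ext fun c => ?_
    obtain ⟨c, rfl⟩ := (ConcreteCategory.bijective_of_isIso
      (Scheme.ΓSpecIso (CommRingCat.of k)).inv).2 c
    refine (hc c).trans ?_
    have h3 : e.toRingHom ((Scheme.ΓSpecIso (CommRingCat.of k)).inv c) = c :=
      congr($((Scheme.ΓSpecIso (CommRingCat.of k)).inv_hom_id) c)
    exact Eq.trans rfl (congrArg (fun x => E.toRingHom (algebraMap k _ x)) h3.symm)
  rw [hcomp]
  refine ⟨fun h => ?_, fun h => hr.2 _ e (hr.1 _ E h)⟩
  have h1 := hr.1 _ E.symm (hr.2 _ e.symm h)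
  have he : E.symm.toRingHom.comp
      (((E.toRingHom.comp (algebraMap k (B ⧸ RingHom.ker φ))).comp e.toRingHom).comp e.symm.toRingHom) =
        algebraMap k (B ⧸ RingHom.ker φ) := by
    refine RingHom.ext fun x => ?_
    change E.symm (E (algebraMap k (B ⧸ RingHom.ker φ) (e (e.symm x)))) = _
    rw [RingEquiv.apply_symm_apply, RingEquiv.symm_apply_apply]
  exact Eq.subst (motive := fun f => RingHom.Locally (RingHom.IsStandardSmoothOfRelativeDimension m) f) he h1

variable {n : ℕ} [SmoothOfRelativeDimension n (i ≫ CohB1.ProjSpace.toSpec r k)]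

/-- The charts of `X` are smooth of relative dimension `n`. -/
theorem smoothRelDim_chart (j : Fin (r + 1)) :
    SmoothRelDim n k (MvPolynomial (Fin r) k ⧸ chartIdeal i j) := by
  have hV : IsAffineOpen (i ⁻¹ᵁ LefPen.chart r k j) := (chartAff j).2.preimage i
  refine (locally_appLE_iff (i ≫ CohB1.ProjSpace.toSpec r k) ⟨_, hV⟩ n (chartPi i j)
    (chartPi_surjective i j) _ rfl fun c => ?_).1
    (HasRingHomProperty.appLE (@SmoothOfRelativeDimension.{u} n) _ inferInstance
      ⟨⊤, isAffineOpen_top _⟩ ⟨_, hV⟩ le_top)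
  refine Eq.trans ?_ ((appLE_scalar i (𝟙 X) j c).trans ?_)
  · simp only [Category.id_comp]
    rfl
  · rfl

/-- `H` has a singular point on `X` at the rational point `c` of a chart. -/
def Sing {d : ℕ} (H : LefPen.Form r k d) (j : Fin (r + 1))
    (c : (MvPolynomial (Fin r) k ⧸ chartIdeal i j) →ₐ[k] k) : Prop :=
  c (Ideal.Quotient.mk _ (PlaneCurve.affEq j H)) = 0 ∧
    ∀ D ∈ pDer c, D (Ideal.Quotient.mk _ (PlaneCurve.affEq j H)) = 0

/-- The transversality criterion. -/
theorem transversal_iff [IsAlgClosed k] (hn : 1 ≤ n) {d : ℕ} (H : LefPen.Form r k d) :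
    LefPen.Transversal k n 1 (LefPen.secToSpec i ({H} : Set (LefPen.Form r k d))) ↔
      ∀ (j : Fin (r + 1)) (c : (MvPolynomial (Fin r) k ⧸ chartIdeal i j) →ₐ[k] k), ¬ Sing i H j c := by
  let ι := LefPen.secι i ({H} : Set (LefPen.Form r k d))
  let A : Fin (r + 1) → X.affineOpens := fun j => ⟨i ⁻¹ᵁ LefPen.chart r k j, (chartAff j).2.preimage i⟩
  let U : Fin (r + 1) → (LefPen.Sec i ({H} : Set (LefPen.Form r k d))).affineOpens := fun j =>
    ⟨ι ⁻¹ᵁ (A j).1, (A j).2.preimage ι⟩
  have hU : ⨆ j, ((U j : (LefPen.Sec i ({H} : Set (LefPen.Form r k d))).Opens)) = ⊤ := by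
    simp only [U, A]
    rw [← Scheme.Hom.preimage_iSup, iSup_chart]
    rfl
  have h0 : LefPen.Transversal k n 1 (LefPen.secToSpec i ({H} : Set (LefPen.Form r k d))) ↔
      SmoothOfRelativeDimension (n - 1) (LefPen.secToSpec i ({H} : Set (LefPen.Form r k d))) :=
    ⟨fun h => h.elim And.right fun h => absurd h.1 (by omega), fun h => Or.inl ⟨hn, h⟩⟩
  rw [h0, HasRingHomProperty.iff_of_iSup_eq_top (P := @SmoothOfRelativeDimension.{u} (n - 1)) U hU]
  refine forall_congr' fun j => ?_
  let P := MvPolynomial (Fin r) k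
  let B := P ⧸ chartIdeal i j
  let φ₀ : B →+* Γ(X, (A j).1) := Ideal.Quotient.lift _ (chartPi i j) fun a ha => ha
  have hφ₀ : Function.Bijective φ₀ := by
    refine ⟨?_, fun y => ?_⟩
    · rw [injective_iff_map_eq_zero]
      intro x hx
      obtain ⟨x, rfl⟩ := Ideal.Quotient.mk_surjective x
      exact Ideal.Quotient.eq_zero_iff_mem.2 hx
    · obtain ⟨p, hp⟩ := chartPi_surjective i j y
      exact ⟨Ideal.Quotient.mk _ p, hp⟩
  let φ : B →+* Γ(LefPen.Sec i ({H} : Set (LefPen.Form r k d)), (U j).1) := (ι.app (A j).1).hom.comp φ₀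
  have hφ : Function.Surjective φ :=
    ((LefPen.secIdeal i ({H} : Set (LefPen.Form r k d))).subschemeι_app_surjective (A j)).comp hφ₀.2
  have hhyp : (LefPen.hypIdeal H).ideal (chartAff j) = Ideal.span {LefPen.dehom H j} := by
    rw [PlaneCurve.hypIdeal_eq_zeroScheme]
    exact Variety2.Zero.zeroScheme_ideal_eq_span (PlaneCurve.isInvertible_twistProjSpace _) _ (chartAff j)
      (PlaneCurve.gen_frame (k := k) j d) (c := LefPen.dehom H j)
      ((PlaneCurve.formHom_app_of_le H j le_rfl).trans (by rw [Groth.PicAux.resX_self, Groth.PicAux.res_self]))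
  have hsec : (LefPen.secIdeal i ({H} : Set (LefPen.Form r k d))).ideal (A j) =
      Ideal.span {φ₀ (Ideal.Quotient.mk _ (PlaneCurve.affEq j H))} := by
    rw [LefPen.secIdeal, iSup_singleton,
      BlowUpBasics.ideal_comap i _ (chartAff j) (A j) le_rfl, hhyp, Ideal.map_span, Set.image_singleton]
    congr 1
    rw [Set.singleton_eq_singleton_iff]
    change i.appLE _ _ _ _ = Groth.ProjClosed.chartHom i (MvPolynomial.X j) (PlaneCurve.toAway j _)
    rw [PlaneCurve.toAway_affEq]
    exact (congr($(Scheme.Hom.app_eq_appLE (f := i) (U := LefPen.chart r k j)) (LefPen.dehom H j))).symm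
  have hker : RingHom.ker φ = Ideal.span {Ideal.Quotient.mk _ (PlaneCurve.affEq j H)} := by
    rw [← RingHom.comap_ker, Scheme.IdealSheafData.ker_subschemeι_app, hsec,
      ← Ideal.comap_map_of_bijective φ₀ hφ₀ (I := Ideal.span {Ideal.Quotient.mk _ (PlaneCurve.affEq j H)}),
      Ideal.map_span, Set.image_singleton]
  refine (locally_appLE_iff _ (U j) (n - 1) φ hφ _ hker fun c => appLE_scalar i ι j c).trans ?_
  rw [quotient_smoothRelDim_iff hn (smoothRelDim_chart i j)]
  refine forall_congr' fun c => ⟨fun h hS => ?_, fun h hc => ?_⟩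
  · obtain ⟨D, hD, hne⟩ := h hS.1
    exact hne (hS.2 D hD)
  · by_contra hcon
    push Not at hcon
    exact h ⟨hc, hcon⟩

end Groth.SGA7.DualVar
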