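import Groth.Agent.SGA7.DualVar.Cone
import Groth.Agent.SGA7.Forms
import Groth.Agent.VectorBundles.Elimination

/-!
# The transversal hypersurfaces form an open set
-/

set_option autoImplicit false
set_option linter.style.haveILetI false

universe u

open CategoryTheory CategoryTheory.Limits AlgebraicGeometry Opposite TopologicalSpace
open MvPolynomial

namespace Groth.SGA7.DualVar

variable {k : Type u} [Field k] {r : ℕ} {X : Scheme.{u}} (i : X ⟶ CohB1.ProjSpace r k)

local notation "ℙg" => CohB1.polyGrading r k

/-- The gradient of a polynomial at a point. -/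
noncomputable def grad {m : ℕ} (p : MvPolynomial (Fin m) k) (a : Fin m → k) : Fin m → k :=
  fun l => eval a (pderiv l p)

theorem dAt_eq_grad {m : ℕ} (p : MvPolynomial (Fin m) k) (a w : Fin m → k) :
    dAt p a w = ∑ l, grad p a l * w l := dAt_apply p a w

theorem dAt_eq_of_grad {m : ℕ} {p q : MvPolynomial (Fin m) k} {a : Fin m → k} (h : dAt p a = dAt q a) :
    grad p a = grad q a := by
  classical
  funext l
  simpa [dAt_eq_grad, Pi.single_apply] using LinearMap.congr_fun h (Pi.single l 1)

theorem dAt_ext_grad {m : ℕ} {α : Type*} (s : Finset α) (c : α → k) (g : α → MvPolynomial (Fin m) k)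
    (p : MvPolynomial (Fin m) k) (a : Fin m → k) (h : dAt p a = ∑ t ∈ s, c t • dAt (g t) a) :
    grad p a = ∑ t ∈ s, c t • grad (g t) a := by
  classical
  funext l
  have := LinearMap.congr_fun h (Pi.single l 1)
  simpa [dAt_eq_grad, Pi.single_apply, Finset.sum_apply] using this

/-- Finitely many forms generating the ideal of `X`. -/
theorem exists_generators : ∃ (S : Finset (MvPolynomial (Fin (r + 1)) k)) (e : S → ℕ),
    (∀ μ : S, μ.1 ∈ coneIdeal i ∧ μ.1 ∈ ℙg (e μ)) ∧ Ideal.span (S : Set (MvPolynomial (Fin (r + 1)) k)) = coneIdeal i := by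
  classical
  obtain ⟨S, hS, hspan⟩ := (Submodule.fg_span_iff_fg_span_finset_subset _).1
    (IsNoetherian.noetherian (R := MvPolynomial (Fin (r + 1)) k) (M := MvPolynomial (Fin (r + 1)) k) (coneIdeal i))
  refine ⟨S, fun μ => (hS μ.2).choose, fun μ => ⟨?_, (hS μ.2).choose_spec.1⟩, hspan.symm⟩
  exact Ideal.subset_span (hS μ.2)

variable [IsClosedImmersion i] {n : ℕ} [SmoothOfRelativeDimension n (i ≫ CohB1.ProjSpace.toSpec r k)]

theorem finrank_coneTan_eq {v : Fin (r + 1) → k} (hv : v ≠ 0) (hC : InCone i v) :
    Module.finrank k (coneTan i v) = n + 1 := by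
  obtain ⟨j, hj⟩ := Function.ne_iff.1 hv
  have hC' := hC.smul i (v j)⁻¹
  rw [← exists_ins_eq hj] at hC'
  rw [← coneTan_smul i (v := v) (inv_ne_zero hj), ← exists_ins_eq hj, finrank_coneTan i hC',
    finrank_chartTan (n := n) i hC']

omit [IsClosedImmersion i] in
/-- The cone condition, through generators. -/
theorem inCone_iff {S : Finset (MvPolynomial (Fin (r + 1)) k)} {e : S → ℕ}
    (hS : ∀ μ : S, μ.1 ∈ coneIdeal i ∧ μ.1 ∈ ℙg (e μ))
    (hspan : Ideal.span (S : Set (MvPolynomial (Fin (r + 1)) k)) = coneIdeal i) (v : Fin (r + 1) → k) :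
    InCone i v ↔ ∀ g : S, eval v g.1 = 0 := by
  refine ⟨fun h g => h _ _ (hS g).1 (hS g).2, fun h e G hG _ => ?_⟩
  rw [← hspan] at hG
  exact (Ideal.span_le.2 fun g hg => h ⟨g, hg⟩ : Ideal.span (S : Set _) ≤ RingHom.ker (eval v)) hG

/-- The Jacobian of generators. -/
noncomputable def jac (S : Finset (MvPolynomial (Fin (r + 1)) k)) (v : Fin (r + 1) → k) :
    Matrix S (Fin (r + 1)) k :=
  Matrix.of fun g l => grad g.1 v l

omit [IsClosedImmersion i] in
theorem coneTan_eq_ker {S : Finset (MvPolynomial (Fin (r + 1)) k)} {e : S → ℕ}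
    (hS : ∀ μ : S, μ.1 ∈ coneIdeal i ∧ μ.1 ∈ ℙg (e μ))
    (hspan : Ideal.span (S : Set (MvPolynomial (Fin (r + 1)) k)) = coneIdeal i) {v : Fin (r + 1) → k}
    (hC : InCone i v) : coneTan i v = LinearMap.ker (jac S v).mulVecLin := by
  ext w
  rw [mem_coneTan, LinearMap.mem_ker]
  constructor
  · intro h
    funext g
    have := h _ g.1 (hS g).1 (hS g).2
    rw [dAt_eq_grad] at this
    exact this
  · intro h e G hG _
    rw [← hspan] at hG
    suffices key : eval v G = 0 ∧ dAt G v w = 0 from key.2
    clear ‹G ∈ ℙg e›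
    induction hG using Submodule.span_induction with
    | mem x hx =>
      refine ⟨(inCone_iff i hS hspan v).1 hC ⟨x, hx⟩, ?_⟩
      rw [dAt_eq_grad]
      exact congrFun h ⟨x, hx⟩
    | zero => simp [dAt_apply]
    | add x y _ _ hx hy => exact ⟨by rw [map_add, hx.1, hy.1, add_zero], by rw [dAt_add, hx.2, hy.2, add_zero]⟩
    | smul c x _ hx => exact ⟨by rw [smul_eq_mul, map_mul, hx.1, mul_zero],
        by rw [smul_eq_mul, dAt_mul, hx.1, hx.2, mul_zero, zero_mul, add_zero]⟩

theorem finrank_rows {S : Finset (MvPolynomial (Fin (r + 1)) k)} {e : S → ℕ}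
    (hS : ∀ μ : S, μ.1 ∈ coneIdeal i ∧ μ.1 ∈ ℙg (e μ))
    (hspan : Ideal.span (S : Set (MvPolynomial (Fin (r + 1)) k)) = coneIdeal i) {v : Fin (r + 1) → k}
    (hv : v ≠ 0) (hC : InCone i v) :
    Module.finrank k (Submodule.span k (Set.range (jac S v).row)) = r - n := by
  rw [← Matrix.rank_eq_finrank_span_row, Matrix.rank]
  have h := LinearMap.finrank_range_add_finrank_ker (jac S v).mulVecLin
  rw [← coneTan_eq_ker i hS hspan hC, finrank_coneTan_eq (n := n) i hv hC, Module.finrank_pi,
    Fintype.card_fin] at h
  omega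

/-- The transversal hypersurfaces form an open set. -/
theorem isZOpen_transversal [IsAlgClosed k] (hn : 1 ≤ n) (d : ℕ) :
    LefPen.IsZOpen k {H : LefPen.Form r k d |
      LefPen.Transversal k n 1 (LefPen.secToSpec i ({H} : Set (LefPen.Form r k d)))} := by
  classical
  obtain ⟨S, e, hS, hspan⟩ := exists_generators i
  let ρ := r - n
  let Rw : LefPen.Form r k d → (Fin ρ → S) → Fin (ρ + 1) → MvPolynomial (Fin (r + 1)) k :=
    fun H a => Fin.cons H.1 fun p => (a p).1
  let M : LefPen.Form r k d → (Fin ρ → S) → (Fin (ρ + 1) → Fin (r + 1)) →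
      Matrix (Fin (ρ + 1)) (Fin (ρ + 1)) (MvPolynomial (Fin (r + 1)) k) :=
    fun H a b => Matrix.of fun p q => pderiv (b q) (Rw H a p)
  let μ := (S ⊕ Unit) ⊕ ((Fin ρ → S) × (Fin (ρ + 1) → Fin (r + 1)))
  let deg : (Fin ρ → S) → Fin (ρ + 1) → ℕ := fun a => Fin.cons (d - 1) fun p => e (a p) - 1
  let D : μ → ℕ := Sum.elim (Sum.elim e fun _ => d) fun x => ∑ p, deg x.1 p
  let F : μ → LefPen.Form r k d → MvPolynomial (Fin (r + 1)) k :=
    Sum.elim (Sum.elim (fun g _ => g.1) fun _ H => H.1) fun x H => (M H x.1 x.2).det
  have hhom : ∀ m H, (F m H).IsHomogeneous (D m) := by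
    rintro ((g | _) | ⟨a, b⟩) H
    · exact (mem_homogeneousSubmodule _ _).1 (hS g).2
    · exact (mem_homogeneousSubmodule _ _).1 H.2
    · change ((M H a b).det).IsHomogeneous (∑ p, deg a p)
      rw [Matrix.det_apply']
      refine IsHomogeneous.sum _ _ _ fun σ _ => ?_
      have hrow : ∀ p q, (M H a b p q).IsHomogeneous (deg a p) := by
        intro p q
        refine Fin.cases ?_ (fun p => ?_) p
        · simpa [M, Rw, deg] using ((mem_homogeneousSubmodule _ _).1 H.2).pderiv (i := b q)
        · simpa [M, Rw, deg] using ((mem_homogeneousSubmodule _ _).1 (hS (a p)).2).pderiv (i := b q)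
      have hprod := IsHomogeneous.prod Finset.univ (fun q => M H a b (σ q) q) (fun q => deg a (σ q))
        fun q _ => hrow _ _
      rw [Equiv.sum_comp σ (deg a)] at hprod
      have := (isHomogeneous_C (Fin (r + 1)) ((Equiv.Perm.sign σ : ℤ) : k)).mul hprod
      rw [zero_add] at this
      simpa using this
  have hpoly : ∀ m α, LefPen.IsPolyFun k (fun H => coeff α (F m H)) := by
    rintro ((g | _) | ⟨a, b⟩) α
    · exact VectorBundles.Elim.isPolyFun_const (k := k) (V := LefPen.Form r k d) (coeff α g.1)
    · let L : LefPen.Form r k d →ₗ[k] k :=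
        { toFun := fun H => coeff α H.1
          map_add' := fun H G => coeff_add α H.1 G.1
          map_smul' := fun t H => coeff_smul α t H.1 }
      exact Forms.isPolyFun_linear L
    · let M₀ := M 0 a b
      have hM : ∀ H, M H a b = M₀.updateRow 0 (fun q => pderiv (b q) H.1) := by
        intro H
        refine Matrix.ext fun p q => ?_
        refine Fin.cases ?_ (fun p => ?_) p
        · simp [M, M₀, Rw]
        · rw [Matrix.updateRow_ne (Fin.succ_ne_zero p)]
          simp [M, M₀, Rw]
      let L : LefPen.Form r k d →ₗ[k] k :=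
        { toFun := fun H => coeff α ((M H a b).det)
          map_add' := fun H G => by
            simp only [hM]
            rw [← coeff_add, ← Matrix.det_updateRow_add]
            congr
            funext q
            exact map_add (pderiv (b q)) H.1 G.1
          map_smul' := fun t H => by
            simp only [hM, RingHom.id_apply]
            rw [← coeff_smul, MvPolynomial.smul_eq_C_mul, ← Matrix.det_updateRow_smul]
            congr
            funext q
            rw [Pi.smul_apply, smul_eq_mul, ← MvPolynomial.smul_eq_C_mul]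
            exact (pderiv (b q)).map_smul t H.1 }
      exact Forms.isPolyFun_linear L
  have key := VectorBundles.Elim.isZOpen_forall_exists_eval_ne_zero D F hhom hpoly
  suffices heq : {H : LefPen.Form r k d |
      LefPen.Transversal k n 1 (LefPen.secToSpec i ({H} : Set (LefPen.Form r k d)))} =
      {H | ∀ x : Fin (r + 1) → k, x ≠ 0 → ∃ m, eval x (F m H) ≠ 0} by rwa [heq]
  ext H
  simp only [Set.mem_ofPred_eq]
  rw [transversal_iff_coneSing i hn H]
  refine forall_congr' fun v => imp_congr_right fun hv => ?_
  rw [← not_iff_not, not_not, not_exists]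
  simp only [ne_eq, not_not]
  have hcone := inCone_iff i hS hspan v
  constructor
  · rintro ⟨hC, hH, hle⟩ ((g | _) | ⟨a, b⟩)
    · exact hcone.1 hC g
    · exact hH
    · change eval v (M H a b).det = 0
      rw [RingHom.map_det]
      by_contra hdet
      have hker := coneTan_eq_ker i hS hspan hC
      have hrank := finrank_rows (n := n) i hS hspan hv hC
      set J := jac S v
      have hle' : ⨅ g : S, LinearMap.ker (dAt g.1 v) ≤ LinearMap.ker (dAt H.1 v) := by
        refine le_trans (fun w hw => ?_) hle
        rw [hker, LinearMap.mem_ker]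
        funext g
        have := (Submodule.mem_iInf _).1 hw g
        rw [LinearMap.mem_ker, dAt_eq_grad] at this
        exact this
      obtain ⟨c, hc⟩ := (Submodule.mem_span_range_iff_exists_fun k).1 (mem_span_of_iInf_ker_le_ker hle')
      have hgH : grad H.1 v ∈ Submodule.span k (Set.range J.row) := by
        rw [dAt_ext_grad Finset.univ c (fun g : S => g.1) H.1 v hc.symm]
        exact Submodule.sum_mem _ fun g _ => Submodule.smul_mem _ _ (Submodule.subset_span ⟨g, rfl⟩)
      let row : Fin (ρ + 1) → Fin (r + 1) → k := fun p => grad (Rw H a p) v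
      have hrow : ∀ p, row p ∈ Submodule.span k (Set.range J.row) := fun p => by
        refine Fin.cases ?_ (fun p => ?_) p
        · simpa [row, Rw] using hgH
        · refine Submodule.subset_span ⟨a p, ?_⟩
          simp [row, Rw, J, jac]
      have hli : LinearIndependent k fun p => (LinearMap.funLeft k k b) (row p) := by
        exact Matrix.linearIndependent_rows_of_det_ne_zero hdet
      have hli' : LinearIndependent k row := LinearIndependent.of_comp _ hli
      have h2 : LinearIndependent k fun p => (⟨row p, hrow p⟩ : Submodule.span k (Set.range J.row)) :=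
        LinearIndependent.of_comp (Submodule.span k (Set.range J.row)).subtype hli'
      have := h2.fintype_card_le_finrank
      rw [hrank, Fintype.card_fin] at this
      omega
  · intro h
    have hC : InCone i v := hcone.2 fun g => h (Sum.inl (Sum.inl g))
    have hH : eval v H.1 = 0 := h (Sum.inl (Sum.inr ()))
    refine ⟨hC, hH, fun w hw => ?_⟩
    by_contra hne
    rw [LinearMap.mem_ker] at hne
    have hrank := finrank_rows (n := n) i hS hspan hv hC
    set J := jac S v
    obtain ⟨g, hg, hgspan, hgli⟩ := Submodule.exists_fun_fin_finrank_span_eq k (Set.range J.row)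
    choose a ha using hg
    let a' : Fin ρ → S := fun p => a (Fin.cast hrank.symm p)
    let B : Matrix (Fin (r + 1)) (Fin (ρ + 1)) k := Matrix.of fun l p => grad (Rw H a' p) v l
    obtain ⟨b, hb⟩ := VectorBundles.Elim.exists_det_submatrix_ne_zero B (by
      intro x hx
      have hsum : ∑ p, x p • grad (Rw H a' p) v = 0 := funext fun l => by
        simpa [B, Finset.sum_apply, mul_comm] using hx l
      have h0 : ∀ p : Fin ρ, dAt (a' p).1 v w = 0 := fun p =>
        (mem_coneTan i).1 hw _ _ (hS (a' p)).1 (hS (a' p)).2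
      have hx0 : x 0 = 0 := by
        let Λ : (Fin (r + 1) → k) →ₗ[k] k := ∑ l, w l • LinearMap.proj l
        have hΛ : ∀ p : MvPolynomial (Fin (r + 1)) k, Λ (grad p v) = dAt p v w := fun p => by
          simp [Λ, dAt_eq_grad, mul_comm]
        have := congrArg Λ hsum
        simp only [Fin.sum_univ_succ (f := fun p => x p • grad (Rw H a' p) v), Rw, Fin.cons_zero, Fin.cons_succ] at this
        rw [LinearMap.map_add, LinearMap.map_smul, hΛ, _root_.map_sum, LinearMap.map_zero,
          Finset.sum_eq_zero fun q _ => by rw [LinearMap.map_smul, hΛ, h0, smul_zero], add_zero, smul_eq_mul] at this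
        exact (mul_eq_zero.1 this).resolve_right hne
      funext p
      refine Fin.cases hx0 (fun p => ?_) p
      have hcast : LinearIndependent k fun q : Fin ρ => grad (a' q).1 v := by
        have := hgli.comp (Fin.cast hrank.symm) (Fin.cast_injective _)
        have he : g ∘ Fin.cast hrank.symm = fun q : Fin ρ => grad (a' q).1 v :=
          funext fun q => (ha _).symm
        rwa [he] at this
      rw [Fin.sum_univ_succ, hx0, zero_smul, zero_add] at hsum
      simp only [Rw, Fin.cons_succ] at hsum
      exact Fintype.linearIndependent_iff.1 hcast _ hsum p)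
    have hdet := h (Sum.inr (a', b))
    change eval v (M H a' b).det = 0 at hdet
    rw [RingHom.map_det] at hdet
    apply hb
    rw [← Matrix.det_transpose]
    exact hdet

end Groth.SGA7.DualVar
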